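import Cfsg.Agent.H874.Tor.CoEight
import Cfsg.Agent.H848.McLLocal
import Cfsg.Agent.H555.TwoSp.CoThreeSeven
import Cfsg.Agent.NotCT.Orders

/-!
# S3235: the facts of `Co2`, `Co3` (helper874, task 2768)
-/

set_option autoImplicit false
set_option maxRecDepth 20000

namespace Cfsg.Agent.H874.Tor

open Subgroup Cfsg Cfsg.Agent.H33.Tor

universe u

theorem leechU_ne : Spor.leechU ≠ 0 := by
  intro h
  have h1 := congrArg (fun v : leechLattice => (v : GolayPt → ℤ) none) h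
  have h2 : Spor.vecU none = 0 := h1
  simp [Spor.vecU] at h2

theorem leechV_ne : Spor.leechV ≠ 0 := by
  intro h
  have h1 := congrArg (fun v : leechLattice => (v : GolayPt → ℤ) none) h
  have h2 : Spor.vecV none = 0 := h1
  simp [Spor.vecV] at h2

theorem norm_leechU : sqNorm (Spor.leechU : GolayPt → ℤ) = 32 := by
  change sqNorm Spor.vecU = 32
  decide +kernel

theorem norm_leechV : sqNorm (Spor.leechV : GolayPt → ℤ) = 48 := by
  change sqNorm Spor.vecV = 48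
  decide +kernel

/-! ### `Co3` -/

theorem card_co3 : Nat.card Spor.Co3 = 495766656000 := Cfsg.Agent.NotCT.Orders.co3 ⟨MulEquiv.refl _⟩

theorem coThree_five {x : Spor.Co3} (hx : orderOf x = 5) : 2 ∣ Nat.card (centralizer ({x} : Set Spor.Co3)) := by
  have hfin : Finite Spor.Co3 := Nat.finite_of_card_ne_zero (by rw [card_co3]; norm_num)
  obtain ⟨x0, hx0⟩ : ∃ x0 : Co0, x0 = ⟨x.1, x.2.1⟩ := ⟨_, rfl⟩
  have ho : orderOf x0 = 5 := by
    rw [← Subgroup.orderOf_coe, hx0]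
    exact (Subgroup.orderOf_coe x).trans hx
  have hfix : x0 • Spor.leechV = Spor.leechV := by
    rw [hx0]
    exact x.2.2
  obtain ⟨t, ht, htx, htv⟩ := CoEight.exists_inv ho leechV_ne (n := 48) (by norm_num) norm_leechV hfix
  obtain ⟨t2, ht2⟩ : ∃ t2 : Spor.Co3, t2.1 = t.1 := ⟨⟨t.1, ⟨t.2, htv⟩⟩, rfl⟩
  refine even_of_comm (t := t2) ?_ ?_
  · rw [← Subgroup.orderOf_coe, ht2, Subgroup.orderOf_coe, ht]
  · apply Subtype.ext
    have h1 := congrArg Subtype.val htx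
    rw [hx0] at h1
    show t2.1 * x.1 = x.1 * t2.1
    rw [ht2]
    exact h1

theorem facts_coThree0 {p : ℕ} (hp : p.Prime) (hp5 : 5 ≤ p) : Facts p Spor.Co3 := by
  have hfin : Finite Spor.Co3 := Nat.finite_of_card_ne_zero (by rw [card_co3]; norm_num)
  intro x hx
  have hd : p ∣ 495766656000 := by rw [← card_co3, ← hx]; exact orderOf_dvd_natCard x
  have hd' : p ∣ 2 ^ 10 * (3 ^ 7 * (5 ^ 3 * (7 * (11 * 23)))) := hd.trans (by norm_num)
  have key : p = 5 ∨ p = 7 ∨ p = 11 ∨ p = 23 := by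
    rcases hp.dvd_mul.1 hd' with h | h
    · have := Nat.le_of_dvd (by norm_num) (hp.dvd_of_dvd_pow h); omega
    rcases hp.dvd_mul.1 h with h | h
    · have := Nat.le_of_dvd (by norm_num) (hp.dvd_of_dvd_pow h); omega
    rcases hp.dvd_mul.1 h with h | h
    · have := Nat.le_of_dvd (by norm_num) (hp.dvd_of_dvd_pow h); omega
    rcases hp.dvd_mul.1 h with h | h
    · have := (Nat.prime_dvd_prime_iff_eq hp (by norm_num)).1 h; omega
    rcases hp.dvd_mul.1 h with h | h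
    · have := (Nat.prime_dvd_prime_iff_eq hp (by norm_num)).1 h; omega
    · have := (Nat.prime_dvd_prime_iff_eq hp (by norm_num)).1 h; omega
  rcases key with rfl | rfl | rfl | rfl
  · exact Or.inl (Ev.of_even (coThree_five hx))
  · obtain ⟨b, -, hb⟩ := H555.TwoSp.c7 (T := Spor.Co3) ⟨MulEquiv.refl _⟩
    have h1 := hb (zpowers x) (by rw [Nat.card_zpowers, hx])
    rw [centralizer_zpowers] at h1
    refine Or.inl (Ev.of_even ?_)
    rw [h1]
    exact Dvd.dvd.mul_left (Dvd.dvd.mul_right (dvd_refl 2) _) _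
  · have h1 := H555.TwoSp.c11 (T := Spor.Co3) ⟨MulEquiv.refl _⟩ (zpowers x) (by rw [Nat.card_zpowers, hx])
    rw [centralizer_zpowers] at h1
    exact Or.inl (Ev.of_even (by rw [h1]; norm_num))
  · have h1 := H555.TwoSp.c23 (T := Spor.Co3) ⟨MulEquiv.refl _⟩ (zpowers x) (by rw [Nat.card_zpowers, hx])
    rw [centralizer_zpowers] at h1
    exact Or.inr (Or.inl (Sm.of_card (by norm_num) (by norm_num) h1 (by rw [card_co3]; norm_num)))

/-- **the facts of `Co3`** -/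
theorem facts_coThree {p : ℕ} (hp : p.Prime) (hp5 : 5 ≤ p) {G : Type u} [Group G] (h : Spor.IsoCo3 G) : Facts p G := by
  obtain ⟨e⟩ := h
  exact Facts.congr e.symm (facts_coThree0 hp hp5)

/-! ### `Co2` -/

theorem card_co2 : Nat.card Spor.Co2 = 42305421312000 := Cfsg.Agent.NotCT.Orders.co2 ⟨MulEquiv.refl _⟩

instance finite_co2 : Finite Spor.Co2 := Nat.finite_of_card_ne_zero (by rw [card_co2]; norm_num)

theorem coTwo_five {x : Spor.Co2} (hx : orderOf x = 5) : 2 ∣ Nat.card (centralizer ({x} : Set Spor.Co2)) := by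
  obtain ⟨x0, hx0⟩ : ∃ x0 : Co0, x0 = ⟨x.1, x.2.1⟩ := ⟨_, rfl⟩
  have ho : orderOf x0 = 5 := by
    rw [← Subgroup.orderOf_coe, hx0]
    exact (Subgroup.orderOf_coe x).trans hx
  have hfix : x0 • Spor.leechU = Spor.leechU := by
    rw [hx0]
    exact x.2.2
  obtain ⟨t, ht, htx, htv⟩ := CoEight.exists_inv ho leechU_ne (n := 32) (by norm_num) norm_leechU hfix
  obtain ⟨t2, ht2⟩ : ∃ t2 : Spor.Co2, t2.1 = t.1 := ⟨⟨t.1, ⟨t.2, htv⟩⟩, rfl⟩
  refine even_of_comm (t := t2) ?_ ?_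
  · rw [← Subgroup.orderOf_coe, ht2, Subgroup.orderOf_coe, ht]
  · apply Subtype.ext
    have h1 := congrArg Subtype.val htx
    rw [hx0] at h1
    show t2.1 * x.1 = x.1 * t2.1
    rw [ht2]
    exact h1

/-- `McL ≤ Co2` -/
theorem mcL_le : Spor.McL ≤ Spor.Co2 := fun _ hg => ⟨hg.1.1, hg.2⟩

theorem coTwo_seven {x : Spor.Co2} (hx : orderOf x = 7) : 2 ∣ Nat.card (centralizer ({x} : Set Spor.Co2)) := by
  have hfin : Finite Spor.McL := Cfsg.Agent.H848.McLLocal.facts.1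
  have h2 : Fact (Nat.Prime 2) := ⟨Nat.prime_two⟩
  obtain ⟨y, hy, hc⟩ := H848.McLLocal.mcl_seven
  obtain ⟨t, ht⟩ := exists_prime_orderOf_dvd_card' (G := centralizer ({y} : Set Spor.McL)) 2 (by rw [hc]; norm_num)
  let ι : Spor.McL →* Spor.Co2 := Subgroup.inclusion mcL_le
  have hι : Function.Injective ι := Subgroup.inclusion_injective mcL_le
  refine even_of_one (l := 7) (by norm_num) (by rw [card_co2]; norm_num) (u := ι y) (t := ι t)
    ((orderOf_injective ι hι y).trans hy) ((orderOf_injective ι hι _).trans ?_) ?_ hx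
  · rw [Subgroup.orderOf_coe, ht]
  · rw [← map_mul, ← map_mul, mem_centralizer_singleton_iff.1 t.2]

section

/-- the centralizer in `Co2`, acting on the Leech lattice -/
def phi2 (y : Spor.Co2) : ↥(centralizer ({y} : Set Spor.Co2)) →* Co0 where
  toFun g := ⟨g.1.1, g.1.2.1⟩
  map_one' := rfl
  map_mul' _ _ := rfl

theorem phi2_inj (y : Spor.Co2) : Function.Injective (phi2 y) := fun _ _ h =>
  Subtype.ext (Subtype.ext (congrArg (fun g : Co0 => g.1) h))

theorem phi2_fix (y : Spor.Co2) (g : ↥(centralizer ({y} : Set Spor.Co2))) : phi2 y g • Spor.leechU = Spor.leechU :=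
  g.1.2.2

end

theorem coTwo_dvd {x : Spor.Co2} {r : ℕ} (hr : r = 11 ∨ r = 23) (hx : orderOf x = r) :
    Nat.card (centralizer ({x} : Set Spor.Co2)) ∣ 2 ^ 18 * (3 * r) := by
  have hP : H149.Sp.P5 r := by
    rcases hr with rfl | rfl
    · exact Or.inr (Or.inr (Or.inl rfl))
    · exact Or.inr (Or.inr (Or.inr (Or.inr rfl)))
  have hxc : x ∈ centralizer ({x} : Set Spor.Co2) := mem_centralizer_singleton_iff.2 rfl
  have hxo : orderOf (⟨x, hxc⟩ : centralizer ({x} : Set Spor.Co2)) = r := by rw [Subgroup.orderOf_mk, hx]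
  have hcm : ∀ g : centralizer ({x} : Set Spor.Co2), g * ⟨x, hxc⟩ = ⟨x, hxc⟩ * g := fun g =>
    Subtype.ext (mem_centralizer_singleton_iff.1 g.2)
  have h9 := H143.LeechNine.not_nine (phi2_inj x) leechU_ne (phi2_fix x) hP hxo hcm
  have hq : ∀ q, H149.Sp.P5 q → q ≠ r → (Nat.card ↥(centralizer ({x} : Set Spor.Co2))).Coprime q := fun q hq hne =>
    ((Nat.Prime.coprime_iff_not_dvd hq.prime).2 fun hd =>
      hne (H143.LeechNine.prime_eq (phi2_inj x) leechU_ne (phi2_fix x) hP hq hxo hcm hd)).symm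
  have h0 : Nat.card ↥(centralizer ({x} : Set Spor.Co2)) ∣ 2 ^ 18 * 3 ^ 6 * 5 ^ 3 * 7 * 11 * 23 := by
    have : 2 ^ 18 * 3 ^ 6 * 5 ^ 3 * 7 * 11 * 23 = Nat.card Spor.Co2 := by rw [card_co2]; norm_num
    rw [this]; exact card_subgroup_dvd_card _
  have hc0 : Nat.card ↥(centralizer ({x} : Set Spor.Co2)) ≠ 0 := Nat.card_pos.ne'
  generalize Nat.card ↥(centralizer ({x} : Set Spor.Co2)) = c at *
  have h3 : ∀ m : ℕ, c ∣ m * 3 ^ 6 → ¬ 3 ∣ m → c ∣ m * 3 := by
    intro m hcm hm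
    obtain ⟨k, d, hd, hH⟩ := Nat.exists_eq_pow_mul_and_not_dvd hc0 3 (by norm_num)
    have hk : k < 2 := by
      by_contra hcon
      apply h9
      rw [hH]
      calc 9 = 3 ^ 2 := by norm_num
        _ ∣ 3 ^ k := pow_dvd_pow 3 (by omega)
        _ ∣ 3 ^ k * d := dvd_mul_right _ _
    have h4 : d ∣ m := by
      refine Nat.Coprime.dvd_of_dvd_mul_right (n := 3 ^ 6) ?_ ((Dvd.intro_left _ hH.symm).trans hcm)
      exact (((Nat.Prime.coprime_iff_not_dvd Nat.prime_three).2 hd).symm).pow_right 6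
    rw [hH, mul_comm m 3]
    exact mul_dvd_mul (by calc 3 ^ k ∣ 3 ^ 1 := pow_dvd_pow 3 (by omega)
                            _ = 3 := pow_one 3) h4
  have c5 : c.Coprime (5 ^ 3) := (hq 5 (Or.inl rfl) (by omega)).pow_right 3
  have c7 : c.Coprime 7 := hq 7 (Or.inr (Or.inl rfl)) (by omega)
  rcases hr with rfl | rfl
  · have c23 : c.Coprime 23 := hq 23 (Or.inr (Or.inr (Or.inr (Or.inr rfl)))) (by norm_num)
    have h1 : c ∣ 2 ^ 18 * 3 ^ 6 * 5 ^ 3 * 7 * 11 := c23.dvd_of_dvd_mul_right h0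
    have h2 : c ∣ 2 ^ 18 * 3 ^ 6 * 5 ^ 3 * 11 := c7.dvd_of_dvd_mul_right (h1.trans (dvd_of_eq (by ring)))
    have h4 : c ∣ 2 ^ 18 * 3 ^ 6 * 11 := c5.dvd_of_dvd_mul_right (h2.trans (dvd_of_eq (by ring)))
    exact (h3 (2 ^ 18 * 11) (h4.trans (dvd_of_eq (by ring))) (by norm_num)).trans (dvd_of_eq (by ring))
  · have c11 : c.Coprime 11 := hq 11 (Or.inr (Or.inr (Or.inl rfl))) (by norm_num)
    have h1 : c ∣ 2 ^ 18 * 3 ^ 6 * 5 ^ 3 * 7 * 23 := c11.dvd_of_dvd_mul_right (h0.trans (dvd_of_eq (by ring)))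
    have h2 : c ∣ 2 ^ 18 * 3 ^ 6 * 5 ^ 3 * 23 := c7.dvd_of_dvd_mul_right (h1.trans (dvd_of_eq (by ring)))
    have h4 : c ∣ 2 ^ 18 * 3 ^ 6 * 23 := c5.dvd_of_dvd_mul_right (h2.trans (dvd_of_eq (by ring)))
    exact (h3 (2 ^ 18 * 23) (h4.trans (dvd_of_eq (by ring))) (by norm_num)).trans (dvd_of_eq (by ring))

theorem arith11 : ∀ c ∈ Nat.divisors 33, 11 ∣ c → c = 11 ∨ c = 33 := by decide +kernel
theorem arith23 : ∀ c ∈ Nat.divisors 69, 23 ∣ c → c = 23 ∨ c = 69 := by decide +kernel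

theorem facts_coTwo0 {p : ℕ} (hp : p.Prime) (hp5 : 5 ≤ p) : Facts p Spor.Co2 := by
  intro x hx
  have hd : p ∣ 42305421312000 := by rw [← card_co2, ← hx]; exact orderOf_dvd_natCard x
  have hd' : p ∣ 2 ^ 18 * (3 ^ 6 * (5 ^ 3 * (7 * (11 * 23)))) := hd.trans (by norm_num)
  have key : p = 5 ∨ p = 7 ∨ p = 11 ∨ p = 23 := by
    rcases hp.dvd_mul.1 hd' with h | h
    · have := Nat.le_of_dvd (by norm_num) (hp.dvd_of_dvd_pow h); omega
    rcases hp.dvd_mul.1 h with h | h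
    · have := Nat.le_of_dvd (by norm_num) (hp.dvd_of_dvd_pow h); omega
    rcases hp.dvd_mul.1 h with h | h
    · have := Nat.le_of_dvd (by norm_num) (hp.dvd_of_dvd_pow h); omega
    rcases hp.dvd_mul.1 h with h | h
    · have := (Nat.prime_dvd_prime_iff_eq hp (by norm_num)).1 h; omega
    rcases hp.dvd_mul.1 h with h | h
    · have := (Nat.prime_dvd_prime_iff_eq hp (by norm_num)).1 h; omega
    · have := (Nat.prime_dvd_prime_iff_eq hp (by norm_num)).1 h; omega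
  rcases key with rfl | rfl | rfl | rfl
  · exact Or.inl (Ev.of_even (coTwo_five hx))
  · exact Or.inl (Ev.of_even (coTwo_seven hx))
  · rcases ev_or_dvd (coTwo_dvd (Or.inl rfl) hx) with h | h
    · exact Or.inl h
    · rcases arith11 _ (Nat.mem_divisors.2 ⟨h, by norm_num⟩) (dvd_card_centralizer hx) with h1 | h1
      · exact Or.inr (Or.inl (Sm.of_card (by norm_num) (by norm_num) h1 (by rw [card_co2]; norm_num)))
      · exact Or.inr (Or.inl (Sm.of_eq h1 card_co2 (by norm_num) (by norm_num)))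
  · rcases ev_or_dvd (coTwo_dvd (Or.inr rfl) hx) with h | h
    · exact Or.inl h
    · rcases arith23 _ (Nat.mem_divisors.2 ⟨h, by norm_num⟩) (dvd_card_centralizer hx) with h1 | h1
      · exact Or.inr (Or.inl (Sm.of_card (by norm_num) (by norm_num) h1 (by rw [card_co2]; norm_num)))
      · exact Or.inr (Or.inl (Sm.of_eq h1 card_co2 (by norm_num) (by norm_num)))

/-- **the facts of `Co2`** -/
theorem facts_coTwo {p : ℕ} (hp : p.Prime) (hp5 : 5 ≤ p) {G : Type u} [Group G] (h : Spor.IsoCo2 G) : Facts p G := by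
  obtain ⟨e⟩ := h
  exact Facts.congr e.symm (facts_coTwo0 hp hp5)

end Cfsg.Agent.H874.Tor
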