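import Cfsg.Agent.H33.Tor.Facts
import Cfsg.Agent.CpAutSuz.Gen

/-!
# S3235: tools for the sporadic facts (helper874, task 2768)
-/

set_option autoImplicit false

namespace Cfsg.Agent.H874.Tor

open Subgroup Cfsg Cfsg.Agent.H33.Tor

variable {G : Type*} [Group G]

/-- the centralisers of elements generating the same subgroup -/
theorem centralizer_eq_of_zpowers {x y : G} (h : zpowers x = zpowers y) :
    centralizer ({x} : Set G) = centralizer ({y} : Set G) := by
  rw [← centralizer_zpowers x, ← centralizer_zpowers y, h]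

/-- commuting with an element of order 2 -/
theorem even_of_comm [Finite G] {x t : G} (ht : orderOf t = 2) (h : t * x = x * t) :
    2 ∣ Nat.card (centralizer ({x} : Set G)) := by
  have h2 := orderOf_dvd_natCard (⟨t, mem_centralizer_singleton_iff.2 h⟩ : centralizer ({x} : Set G))
  rwa [Subgroup.orderOf_mk, ht] at h2

theorem card_centralizer_conj (g x : G) :
    Nat.card (centralizer ({g * x * g⁻¹} : Set G)) = Nat.card (centralizer ({x} : Set G)) := by
  refine Nat.card_congr
    { toFun := fun y => ⟨g⁻¹ * y * g, ?_⟩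
      invFun := fun y => ⟨g * y * g⁻¹, ?_⟩
      left_inv := fun y => Subtype.ext (by group)
      right_inv := fun y => Subtype.ext (by group) }
  · have h1 := mem_centralizer_singleton_iff.1 y.2
    rw [mem_centralizer_singleton_iff]
    have h2 : x = g⁻¹ * (g * x * g⁻¹) * g := by group
    calc g⁻¹ * (y : G) * g * x = g⁻¹ * ((y : G) * (g * x * g⁻¹)) * g := by group
      _ = g⁻¹ * ((g * x * g⁻¹) * (y : G)) * g := by rw [h1]
      _ = x * (g⁻¹ * (y : G) * g) := by group
  · have h1 := mem_centralizer_singleton_iff.1 y.2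
    rw [mem_centralizer_singleton_iff]
    calc g * (y : G) * g⁻¹ * (g * x * g⁻¹) = g * ((y : G) * x) * g⁻¹ := by group
      _ = g * (x * (y : G)) * g⁻¹ := by rw [h1]
      _ = g * x * g⁻¹ * (g * (y : G) * g⁻¹) := by group

/-- if the Sylow `l`-subgroups have order `l`, all elements of order `l` have centralisers of the same order -/
theorem card_of_one [Finite G] {l : ℕ} (hl : l.Prime) (h2 : ¬ l ^ 2 ∣ Nat.card G) {u v : G}
    (hu : orderOf u = l) (hv : orderOf v = l) :
    Nat.card (centralizer ({v} : Set G)) = Nat.card (centralizer ({u} : Set G)) := by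
  obtain ⟨g, hg⟩ := Cfsg.Agent.CpAutSuz.Fix.isConj_zpowers hl h2 hu hv
  rw [← centralizer_eq_of_zpowers hg, card_centralizer_conj]

/-- if the Sylow `l`-subgroups have order `l`, one element commuting with an involution is enough -/
theorem even_of_one [Finite G] {l : ℕ} (hl : l.Prime) (h2 : ¬ l ^ 2 ∣ Nat.card G) {u t : G}
    (hu : orderOf u = l) (ht : orderOf t = 2) (h : t * u = u * t) {v : G} (hv : orderOf v = l) :
    2 ∣ Nat.card (centralizer ({v} : Set G)) := by
  rw [card_of_one hl h2 hu hv]
  exact even_of_comm ht h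

theorem dvd_card_centralizer [Finite G] {x : G} {p : ℕ} (hx : orderOf x = p) :
    p ∣ Nat.card (centralizer ({x} : Set G)) := by
  have h2 := orderOf_dvd_natCard (⟨x, mem_centralizer_singleton_iff.2 rfl⟩ : centralizer ({x} : Set G))
  rwa [Subgroup.orderOf_mk, hx] at h2

/-- an element commutes with an involution or the centraliser order divides the odd part -/
theorem ev_or_dvd [Finite G] {x : G} {a m : ℕ} (h : Nat.card (centralizer ({x} : Set G)) ∣ 2 ^ a * m) :
    Ev x ∨ Nat.card (centralizer ({x} : Set G)) ∣ m := by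
  by_cases h2 : 2 ∣ Nat.card (centralizer ({x} : Set G))
  · exact Or.inl (Ev.of_even h2)
  · refine Or.inr (Nat.Coprime.dvd_of_dvd_mul_left ?_ h)
    exact ((Nat.Prime.coprime_iff_not_dvd Nat.prime_two).2 h2).symm.pow_right a

theorem ev_or_eq [Finite G] {x : G} {a p : ℕ} (hp : p.Prime) (hx : orderOf x = p)
    (h : Nat.card (centralizer ({x} : Set G)) ∣ 2 ^ a * p) :
    Ev x ∨ Nat.card (centralizer ({x} : Set G)) = p := by
  refine (ev_or_dvd h).imp_right fun h1 => ?_
  rcases (Nat.dvd_prime hp).1 h1 with h2 | h2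
  · have h3 := dvd_card_centralizer hx
    rw [h2] at h3
    exact absurd (Nat.dvd_one.1 h3) hp.one_lt.ne'
  · exact h2

end Cfsg.Agent.H874.Tor
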