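import Cfsg.Agent.H874.Tor.CoFour
import Cfsg.Agent.H874.Tor.Tools
import Cfsg.Agent.CoFiveC.Row
import Cfsg.Agent.H143.LeechNine

/-!
# Elements of order 5 and fixed rank 8 of `Co0` (helper874, task 2768)

`exists_inv` : an element of order 5 of `Co0` fixing a vector `v` of type 2 or 3 commutes with an involution fixing `v`.
-/

set_option autoImplicit false
set_option maxRecDepth 20000

namespace Cfsg.Agent.H874.Tor.CoEight

open Cfsg Subgroup
open Cfsg.Spor (Co1)
open Cfsg.Agent.MonsterU.Lam2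
open Cfsg.Agent.CoFive.Class
open Cfsg.Agent.CoFive.Dims (tr8_isConj tr8_r0 five_finrank finrank_r4 isConj_of_finrank)
open Cfsg.Agent.CoFive.FixRank (FX mem_FX fr_mk fr_eq)
open Cfsg.Agent.Co2Type.Mono (tr8 tr8_conj)
open Cfsg.Agent.SigZeroCo2.Rank (fix mem_fix)
open Cfsg.Agent.SigZeroCo2.Lin (rep Sp trace_rep tr8_one trace_one)
open Cfsg.Agent.PreUniqCo.FixBound (mem_fix_tau)
open Cfsg.Agent.SporadicA.Co0Card (sqNorm_smul)
open Module (finrank)

/-! ### The centralizer has order 72000 -/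

theorem comap_eq {x : Co0} (hx : orderOf x = 5) :
    (centralizer ({(QuotientGroup.mk x : Co1)} : Set Co1)).comap (QuotientGroup.mk' (center Co0)) =
      centralizer ({x} : Set Co0) := by
  have hx5 : x ^ 5 = 1 := by rw [← hx, pow_orderOf_eq_one]
  ext g
  rw [mem_comap, mem_centralizer_singleton_iff, mem_centralizer_singleton_iff]
  constructor
  · intro h
    have h1 : (QuotientGroup.mk (x * g) : Co1) = QuotientGroup.mk (g * x) := h.symm
    rw [QuotientGroup.eq] at h1
    -- `g x = x g c`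
    obtain ⟨c, hc⟩ : ∃ c, c = (x * g)⁻¹ * (g * x) := ⟨_, rfl⟩
    rw [← hc] at h1
    have hcc := CoFive.Ranks.sq_of_center h1
    have hcen := Subgroup.mem_center_iff.1 h1
    have h2 : g * x * g⁻¹ = x * c := by
      have h3 : g * x = x * g * c := by rw [hc]; group
      rw [h3, mul_assoc x g c, hcen g]
      group
    have h3 : (g * x * g⁻¹) ^ 5 = 1 := by rw [conj_pow, hx5, mul_one, mul_inv_cancel]
    have h4 : Commute x c := hcen x
    rw [h2, h4.mul_pow, hx5, one_mul] at h3
    have h5 : c = 1 := by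
      have : c ^ 5 = c ^ 2 * c ^ 2 * c := by group
      rw [this, hcc, one_mul, one_mul] at h3
      exact h3
    rw [h5, mul_one] at h2
    calc g * x = g * x * g⁻¹ * g := by group
      _ = x * g := by rw [h2]
  · intro h
    show (QuotientGroup.mk g : Co1) * QuotientGroup.mk x = QuotientGroup.mk x * QuotientGroup.mk g
    rw [← QuotientGroup.mk_mul, ← QuotientGroup.mk_mul, h]

theorem card_comap {G : Type*} [Group G] [Finite G] (N : Subgroup G) [N.Normal] (K : Subgroup (G ⧸ N)) :
    Nat.card (K.comap (QuotientGroup.mk' N)) = Nat.card N * Nat.card K := by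
  have h1 : (K.comap (QuotientGroup.mk' N)).index = K.index :=
    index_comap_of_surjective _ (QuotientGroup.mk'_surjective N)
  have h2 := card_mul_index (K.comap (QuotientGroup.mk' N))
  have h3 := card_mul_index K
  have h4 := Subgroup.card_eq_card_quotient_mul_card_subgroup N
  rw [h1, h4, ← h3] at h2
  have h5 : 0 < K.index := Nat.pos_of_ne_zero index_ne_zero_of_finite
  apply Nat.eq_of_mul_eq_mul_right h5
  rw [h2]
  ring

theorem fr_of {x : Co0} (hx : orderOf x = 5) (h8 : finrank ℚ (fix (rep x)) = 8) :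
    LThreeMB.fr (QuotientGroup.mk x : Co1) = 2 ^ 8 := by
  rw [fr_eq (n := 5) (by decide) (by rw [← hx, pow_orderOf_eq_one]), h8]

theorem orderOf_mk {x : Co0} (hx : orderOf x = 5) : orderOf (QuotientGroup.mk x : Co1) = 5 := by
  have : Fact (Nat.Prime 5) := ⟨Nat.prime_five⟩
  have hx5 : x ^ 5 = 1 := by rw [← hx, pow_orderOf_eq_one]
  refine orderOf_eq_prime (by rw [← QuotientGroup.mk_pow, hx5, QuotientGroup.mk_one]) fun h => ?_
  have h2 := CoFive.Ranks.sq_of_center ((QuotientGroup.eq_one_iff x).1 h)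
  have h3 : x = 1 := by
    have : x ^ 5 = x ^ 2 * x ^ 2 * x := by group
    rw [this, h2, one_mul, one_mul] at hx5
    exact hx5
  rw [h3, orderOf_one] at hx
  norm_num at hx

theorem card_C {x : Co0} (hx : orderOf x = 5) (h8 : finrank ℚ (fix (rep x)) = 8) :
    Nat.card (centralizer ({x} : Set Co0)) = 72000 := by
  have := finite_co0
  rw [← comap_eq hx, card_comap, CoFive.Ranks.card_center, MFiveHN.UpEight.card_cent (orderOf_mk hx) (fr_of hx h8)]

/-! ### Congruent vectors -/

theorem eq_or_neg {n : ℤ} (hn : n < 64) {v w : leechLattice} (hv : sqNorm (v : GolayPt → ℤ) = n)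
    (hw : sqNorm (w : GolayPt → ℤ) = n) (h : cl v = cl w) : v = w ∨ v = -w := by
  obtain ⟨u, hu⟩ := cl_eq.1 h
  have h1 : sqNorm ((v - w : leechLattice) : GolayPt → ℤ) = 4 * sqNorm (u : GolayPt → ℤ) := by
    rw [hu, sqNorm, sqNorm, Finset.mul_sum]
    refine Finset.sum_congr rfl fun i _ => ?_
    rw [AddSubgroup.coe_nsmul, Pi.smul_apply, nsmul_eq_mul]
    push_cast; ring
  have h2 : sqNorm ((v + w : leechLattice) : GolayPt → ℤ) = 4 * sqNorm ((u + w : leechLattice) : GolayPt → ℤ) := by
    have : v + w = 2 • (u + w) := by rw [nsmul_add, ← hu, two_nsmul]; abel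
    rw [this, sqNorm, sqNorm, Finset.mul_sum]
    refine Finset.sum_congr rfl fun i _ => ?_
    rw [AddSubgroup.coe_nsmul, Pi.smul_apply, nsmul_eq_mul]
    push_cast; ring
  have h3 : sqNorm ((v - w : leechLattice) : GolayPt → ℤ) + sqNorm ((v + w : leechLattice) : GolayPt → ℤ) = 4 * n := by
    have e : sqNorm ((v - w : leechLattice) : GolayPt → ℤ) + sqNorm ((v + w : leechLattice) : GolayPt → ℤ) =
        2 * sqNorm (v : GolayPt → ℤ) + 2 * sqNorm (w : GolayPt → ℤ) := by
      rw [sqNorm, sqNorm, sqNorm, sqNorm, ← Finset.sum_add_distrib, Finset.mul_sum, Finset.mul_sum,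
        ← Finset.sum_add_distrib]
      refine Finset.sum_congr rfl fun i _ => ?_
      rw [AddSubgroup.coe_sub, AddSubgroup.coe_add, Pi.sub_apply, Pi.add_apply]
      ring
    rw [e, hv, hw]; ring
  by_cases hu0 : u = 0
  · left
    rw [hu0, nsmul_zero] at hu
    exact sub_eq_zero.1 hu
  · by_cases huw : u + w = 0
    · right
      have : v + w = 2 • (u + w) := by rw [nsmul_add, ← hu, two_nsmul]; abel
      rw [huw, nsmul_zero] at this
      exact eq_neg_of_add_eq_zero_left this
    · exfalso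
      have h4 : (32 : ℤ) ≤ sqNorm (u : GolayPt → ℤ) :=
        Cfsg.Agent.S0391.result u u.2 (fun h => hu0 (Subtype.ext h))
      have h5 : (32 : ℤ) ≤ sqNorm ((u + w : leechLattice) : GolayPt → ℤ) :=
        Cfsg.Agent.S0391.result _ (u + w).2 (fun h => huw (Subtype.ext h))
      omega

/-- the orbit of a short fixed vector under the centralizer -/
theorem ncard_orbit_le {x : Co0} {v : leechLattice} {n : ℤ} (hn : n < 64) (hv : sqNorm (v : GolayPt → ℤ) = n)
    (hxv : x • v = v) :
    (MulAction.orbit (centralizer ({x} : Set Co0)) v).ncard ≤ 2 * Nat.card (FX x) := by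
  classical
  have := finite_co0
  have hfin : Finite L2 := inferInstance
  have hO : (MulAction.orbit (centralizer ({x} : Set Co0)) v).Finite := Set.finite_range _
  have hF : (FX x : Set L2).Finite := Set.toFinite _
  have hkey : ∀ w ∈ MulAction.orbit (centralizer ({x} : Set Co0)) v, x • w = w ∧ sqNorm (w : GolayPt → ℤ) = n := by
    rintro w ⟨g, rfl⟩
    have hg := mem_centralizer_singleton_iff.1 g.2
    refine ⟨?_, ?_⟩
    · show x • ((g : Co0) • v) = (g : Co0) • v
      rw [← mul_smul, ← hg, mul_smul, hxv]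
    · show sqNorm (((g : Co0) • v : leechLattice) : GolayPt → ℤ) = n
      rw [sqNorm_smul, hv]
  have h1 : hO.toFinset.card ≤ 2 * hF.toFinset.card := by
    refine Finset.card_le_mul_card_image_of_maps_to (f := fun w => cl w) ?_ 2 ?_
    · intro w hw
      rw [Set.Finite.mem_toFinset] at hw
      rw [Set.Finite.mem_toFinset]
      show x • cl w = cl w
      rw [smul_cl, (hkey w hw).1]
    · intro b hb
      by_cases hne : (hO.toFinset.filter fun w => cl w = b).Nonempty
      · obtain ⟨w₀, hw₀⟩ := hne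
        rw [Finset.mem_filter, Set.Finite.mem_toFinset] at hw₀
        refine le_trans (Finset.card_le_card (t := {w₀, -w₀}) ?_) Finset.card_le_two
        intro w hw
        rw [Finset.mem_filter, Set.Finite.mem_toFinset] at hw
        rw [Finset.mem_insert, Finset.mem_singleton]
        exact eq_or_neg hn (hkey w hw.1).2 (hkey w₀ hw₀.1).2 (by rw [hw.2, hw₀.2])
      · rw [Finset.not_nonempty_iff_eq_empty] at hne
        rw [hne]
        simp
  rw [Set.ncard_eq_toFinset_card _ hO]
  refine h1.trans (Nat.mul_le_mul_left 2 ?_)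
  rw [← Set.ncard_eq_toFinset_card _ hF, ← Nat.card_coe_set_eq]
  rfl

/-! ### The stabilizer -/

/-- a subgroup of order divisible by 125 of the centralizer contains an element without fixed vectors -/
theorem exists_r0 {x : Co0} (hx : orderOf x = 5) (h8 : finrank ℚ (fix (rep x)) = 8)
    {H : Subgroup (centralizer ({x} : Set Co0))} (hH : 125 ∣ Nat.card H) :
    ∃ y ∈ H, finrank ℚ (fix (rep (y : Co0))) = 0 := by
  have := finite_co0
  have h5 : Fact (Nat.Prime 5) := ⟨Nat.prime_five⟩
  obtain ⟨g, hg⟩ := isConj_iff.1 (isConj_of_finrank order_r8 hx (by rw [h8]; exact CoFive.Dims.finrank_r8))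
  have hc : r0 * r8 = r8 * r0 := by
    rw [r0_eq, r8_eq]
    exact hyp.ph_comm _ _
  -- the element
  have hy : g * r0 * g⁻¹ ∈ centralizer ({x} : Set Co0) := by
    rw [mem_centralizer_singleton_iff, ← hg]
    calc g * r0 * g⁻¹ * (g * r8 * g⁻¹) = g * (r0 * r8) * g⁻¹ := by group
      _ = g * (r8 * r0) * g⁻¹ := by rw [hc]
      _ = _ := by group
  obtain ⟨y, hyd⟩ : ∃ y : centralizer ({x} : Set Co0), (y : Co0) = g * r0 * g⁻¹ := ⟨⟨_, hy⟩, rfl⟩
  have hyo : orderOf y = 5 := by
    rw [← Subgroup.orderOf_coe, hyd]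
    have h1 : orderOf (MulAut.conj g r0) = orderOf r0 := MulEquiv.orderOf_eq _ _
    rw [order_r0] at h1
    exact h1
  have hfin0 : ∀ z : Co0, IsConj z r0 → finrank ℚ (fix (rep z)) = 0 := by
    intro z hz
    have hzo : orderOf z = 5 := by
      obtain ⟨k, hk⟩ := isConj_iff.1 hz
      have h1 : orderOf (MulAut.conj k z) = orderOf z := MulEquiv.orderOf_eq _ _
      rw [MulAut.conj_apply, hk, order_r0] at h1
      exact h1.symm
    have h := five_finrank hzo
    rw [tr8_isConj hz, tr8_r0] at h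
    have h2 : (finrank ℚ (fix (rep z)) : ℚ) = (0 : ℕ) := by push_cast at h ⊢; linarith
    exact_mod_cast h2
  -- Sylow subgroups
  obtain ⟨K, hK⟩ := Sylow.exists_subgroup_card_pow_prime (G := H) 5 (n := 3) (by norm_num; exact hH)
  have hKc : Nat.card (K.map H.subtype) = 5 ^ 3 := by
    rw [← Nat.card_congr (Subgroup.equivMapOfInjective K _ H.subtype_injective).toEquiv, hK]
  have hcard := card_C hx h8
  have hf : (Nat.card (centralizer ({x} : Set Co0))).factorization 5 = 3 := by
    have h0 : Nat.card (centralizer ({x} : Set Co0)) ≠ 0 := by rw [hcard]; norm_num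
    have h3 : 3 ≤ (Nat.card (centralizer ({x} : Set Co0))).factorization 5 :=
      (Nat.prime_five.pow_dvd_iff_le_factorization h0).1 (by rw [hcard]; norm_num)
    have h4 : ¬ 4 ≤ (Nat.card (centralizer ({x} : Set Co0))).factorization 5 := fun h =>
      absurd ((Nat.prime_five.pow_dvd_iff_le_factorization h0).2 h) (by rw [hcard]; norm_num)
    omega
  let S : Sylow 5 (centralizer ({x} : Set Co0)) := Sylow.ofCard (K.map H.subtype) (by rw [hKc, hf])
  have hyp5 : IsPGroup 5 (zpowers y) := IsPGroup.of_card (n := 1) (by rw [Nat.card_zpowers, hyo, pow_one])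
  obtain ⟨T, hT⟩ := hyp5.exists_le_sylow
  obtain ⟨d, hd⟩ := MulAction.exists_smul_eq (centralizer ({x} : Set Co0)) T S
  have h1 : d * y * d⁻¹ ∈ (S : Subgroup (centralizer ({x} : Set Co0))) := by
    rw [← hd]
    exact ⟨y, hT (mem_zpowers y), rfl⟩
  have h2 : d * y * d⁻¹ ∈ H := by
    obtain ⟨k, -, hk⟩ := h1
    rw [← hk]
    exact k.2
  refine ⟨d * y * d⁻¹, h2, hfin0 _ ?_⟩
  rw [isConj_iff]
  refine ⟨g⁻¹ * (d : Co0)⁻¹, ?_⟩
  push_cast
  rw [hyd]
  group

theorem arith : ∀ c ∈ Nat.divisors 1125, ¬ 9 ∣ c → ¬ 125 ∣ c → c ≤ 75 := by decide +kernel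

/-- **fixed rank eight** -/
theorem even_eight {x : Co0} (hx : orderOf x = 5) (h8 : finrank ℚ (fix (rep x)) = 8) {v : leechLattice} (hv0 : v ≠ 0)
    {n : ℤ} (hn : n < 64) (hv : sqNorm (v : GolayPt → ℤ) = n) (hxv : x • v = v) :
    2 ∣ Nat.card (MulAction.stabilizer (centralizer ({x} : Set Co0)) v) := by
  have := finite_co0
  by_contra hodd
  set H := MulAction.stabilizer (centralizer ({x} : Set Co0)) v with hH
  have hcard := card_C hx h8
  have hdvd : Nat.card H ∣ 72000 := by rw [← hcard]; exact card_subgroup_dvd_card H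
  have hdvd2 : Nat.card H ∣ 1125 := by
    have h1 : Nat.card H ∣ 2 ^ 6 * 1125 := hdvd.trans (by norm_num)
    refine Nat.Coprime.dvd_of_dvd_mul_left ?_ h1
    exact (((Nat.Prime.coprime_iff_not_dvd Nat.prime_two).2 hodd).symm).pow_right 6
  -- not divisible by nine
  have h9 : ¬ 9 ∣ Nat.card H := by
    let φ : H →* Co0 := (centralizer ({x} : Set Co0)).subtype.comp H.subtype
    have hφ : Function.Injective φ := fun a b h => Subtype.ext (Subtype.ext h)
    have hxc : x ∈ centralizer ({x} : Set Co0) := mem_centralizer_singleton_iff.2 rfl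
    have hxH : (⟨x, hxc⟩ : centralizer ({x} : Set Co0)) ∈ H := hxv
    refine H143.LeechNine.not_nine (r := 5) (φ := φ) (v := v) (x := ⟨⟨x, hxc⟩, hxH⟩) hφ hv0 (fun h => h.2) (Or.inl rfl)
      ?_ ?_
    · have h1 := orderOf_injective φ hφ ⟨⟨x, hxc⟩, hxH⟩
      rw [← h1]
      exact hx
    · intro g
      apply hφ
      rw [map_mul, map_mul]
      exact mem_centralizer_singleton_iff.1 (g : centralizer ({x} : Set Co0)).2
  have h125 : ¬ 125 ∣ Nat.card H := by
    intro h
    obtain ⟨y, hy, hy0⟩ := exists_r0 hx h8 h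
    exact CpAutCoFive.finrank_fix_ne_zero hv0 (show (y : Co0) • v = v from hy) hy0
  have h75 : Nat.card H ≤ 75 := arith _ (Nat.mem_divisors.2 ⟨hdvd2, by norm_num⟩) h9 h125
  have hFX : Nat.card (FX x) = 2 ^ 8 := by rw [← fr_mk, fr_of hx h8]
  have horb := ncard_orbit_le hn hv hxv
  rw [← MulAction.index_stabilizer, hFX] at horb
  have h1 := card_mul_index H
  rw [hcard] at h1
  have h2 : Nat.card H * H.index ≤ 75 * (2 * 2 ^ 8) := Nat.mul_le_mul h75 horb
  rw [h1] at h2
  norm_num at h2

/-- **an element of order 5 fixing a vector of type 2 or 3 commutes with an involution fixing it** -/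
theorem exists_inv {x : Co0} (hx : orderOf x = 5) {v : leechLattice} (hv0 : v ≠ 0)
    {n : ℤ} (hn : n < 64) (hv : sqNorm (v : GolayPt → ℤ) = n) (hxv : x • v = v) :
    ∃ t : Co0, orderOf t = 2 ∧ t * x = x * t ∧ t • v = v := by
  rcases CoFive.Dims.dims hx with ⟨-, h⟩ | ⟨-, h⟩ | ⟨-, h⟩
  · have h2 : Fact (Nat.Prime 2) := ⟨Nat.prime_two⟩
    have := finite_co0
    obtain ⟨t, ht⟩ := exists_prime_orderOf_dvd_card' 2 (even_eight hx h hv0 hn hv hxv)
    refine ⟨(t : centralizer ({x} : Set Co0)), ?_, mem_centralizer_singleton_iff.1 (t : centralizer ({x} : Set Co0)).2, t.2⟩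
    rw [Subgroup.orderOf_coe, Subgroup.orderOf_coe, ht]
  · obtain ⟨t, h1, h2, h3⟩ := CoFour.exists_four hx h
    exact ⟨t, h1, h2, h3 v hxv⟩
  · exact absurd h (CpAutCoFive.finrank_fix_ne_zero hv0 hxv)

end Cfsg.Agent.H874.Tor.CoEight
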