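import Cfsg.Agent.H874.Tor.CoOneSeven
import Cfsg.Agent.H874.Tor.CoEight
import Cfsg.Agent.CoOneType.Thirteen

/-!
# S3235: the facts of `Co1` (helper874, task 2768)
-/

set_option autoImplicit false

namespace Cfsg.Agent.H874.Tor

open Subgroup Cfsg Cfsg.Agent.H33.Tor
open Cfsg.Spor (Co1)
open Cfsg.Agent.H55.CoOneBd (card_co1 card_cent_XX card_cent_conj card_cent_dvd exists_lift)

universe u

/-- a nonzero fixed vector -/
theorem exists_vec {x : Co0} (h : Module.finrank ℚ (SigZeroCo2.Rank.fix (SigZeroCo2.Lin.rep x)) ≠ 0) :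
    ∃ v : leechLattice, v ≠ 0 ∧ x • v = v := by
  obtain ⟨u, hu, hu0⟩ := Submodule.exists_mem_ne_zero_of_ne_bot
    (p := SigZeroCo2.Rank.fix (SigZeroCo2.Lin.rep x)) fun hb => h (by rw [hb, finrank_bot])
  obtain ⟨m, hm, l, hl⟩ := PreUniqCo.FixBound.exists_mul u
  refine ⟨l, ?_, ?_⟩
  · rintro rfl
    rw [map_zero] at hl
    have := (smul_eq_zero.1 hl.symm).resolve_left (by exact_mod_cast hm)
    exact hu0 this
  · apply PreUniqCo.FixBound.mem_fix_tau.1
    rw [hl]
    exact Submodule.smul_mem _ _ hu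

/-- a central element of `Co0` with a fixed vector is trivial -/
theorem eq_one_of_center {t : Co0} (ht : t ∈ center Co0) {v : leechLattice} (hv : v ≠ 0) (h : t • v = v) : t = 1 := by
  rcases (CoOneType.CoOneE.mem_center_iff t).1 ht with h1 | h1
  · exact h1
  · exfalso
    rw [h1, SporadicA.Co1Simple.allOne_smul] at h
    apply hv
    have h2 : (2 : ℕ) • v = 0 := by
      rw [two_nsmul]
      nth_rewrite 1 [← h]
      exact neg_add_cancel v
    apply Subtype.ext
    funext i
    have h3 := congrArg (fun u : leechLattice => (u : GolayPt → ℤ) i) h2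
    have h4 : 2 * (v : GolayPt → ℤ) i = 0 := by
      have : ((2 : ℕ) • (v : GolayPt → ℤ)) i = 0 := h3
      rw [Pi.smul_apply, nsmul_eq_mul] at this
      exact_mod_cast this
    show (v : GolayPt → ℤ) i = 0
    omega

/-- the image of an involution fixing a vector -/
theorem orderOf_mk_two {t : Co0} (ht : orderOf t = 2) {v : leechLattice} (hv : v ≠ 0) (h : t • v = v) :
    orderOf (QuotientGroup.mk t : Co1) = 2 := by
  have h2 : Fact (Nat.Prime 2) := ⟨Nat.prime_two⟩
  refine orderOf_eq_prime (by rw [← QuotientGroup.mk_pow, ← ht, pow_orderOf_eq_one, QuotientGroup.mk_one]) fun h1 => ?_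
  have h3 := eq_one_of_center ((QuotientGroup.eq_one_iff t).1 h1) hv h
  rw [h3, orderOf_one] at ht
  norm_num at ht

theorem coOne_five {s : Co1} (hs : orderOf s = 5) : 2 ∣ Nat.card (centralizer ({s} : Set Co1)) := by
  have := H55.CoOneBd.finite_co1
  rcases CoFive.Ranks.ranks s hs with h | h | h
  · obtain ⟨e⟩ := MFive.JTwo.isoJ2 hs h
    have h2 : Nat.card Cfsg.Spor.J2 = 604800 := Cfsg.Agent.S1619.result.2.2.2
    rw [card_cent_XX, hs, Nat.card_congr e.toEquiv, h2]
    norm_num
  · obtain ⟨a, rfl, ha, hao⟩ := exists_lift (by norm_num) (by norm_num) hs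
    have h4 := CoFiveC.Main.finrank_of_fr hao h
    obtain ⟨t, ht, hta, htv⟩ := CoFour.exists_four hao h4
    obtain ⟨v, hv0, hv⟩ := exists_vec (x := a) (by rw [h4]; norm_num)
    refine even_of_comm (orderOf_mk_two ht hv0 (htv v hv)) ?_
    show (QuotientGroup.mk t : Co1) * QuotientGroup.mk a = QuotientGroup.mk a * QuotientGroup.mk t
    rw [← QuotientGroup.mk_mul, ← QuotientGroup.mk_mul, hta]
  · rw [MFiveHN.UpEight.card_cent hs h]
    norm_num

theorem coOne_eleven {s : Co1} (hs : orderOf s = 11) : 2 ∣ Nat.card (centralizer ({s} : Set Co1)) := by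
  obtain ⟨g, hg⟩ := H800.ME.CoFacts.conj_s hs
  rw [← card_cent_conj (isConj_iff.2 ⟨g, hg⟩), H800.ME.CoFacts.card_cent]
  norm_num

theorem coOne_thirteen {s : Co1} (hs : orderOf s = 13) : 2 ∣ Nat.card (centralizer ({s} : Set Co1)) := by
  have := H55.CoOneBd.finite_co1
  obtain ⟨y, hy, hc⟩ := CoOneType.Thirteen.exists_thirteen
  have h13 : Fact (Nat.Prime 13) := ⟨by norm_num⟩
  have h2 : Fact (Nat.Prime 2) := ⟨Nat.prime_two⟩
  have ht : orderOf (QuotientGroup.mk CoOneType.Thirteen.b0 : Co1) = 2 := by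
    refine orderOf_eq_prime ?_ fun h => ?_
    · rw [← QuotientGroup.mk_pow, pow_two, CoOneType.Thirteen.b0_sq]
      exact (QuotientGroup.eq_one_iff _).2 ((CoOneType.CoOneE.mem_center_iff _).2 (Or.inr rfl))
    · have h1 := CoFive.Ranks.sq_of_center ((QuotientGroup.eq_one_iff _).1 h)
      rw [pow_two, CoOneType.Thirteen.b0_sq] at h1
      exact CoOneType.CoOneE.allOne_ne h1
  refine even_of_one (l := 13) (by norm_num) (by rw [card_co1]; norm_num) (u := (QuotientGroup.mk y : Co1))
    (CpAutMSeven.Ranks.orderOf_mk (by norm_num) hy) ht ?_ hs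
  rw [← QuotientGroup.mk_mul, ← QuotientGroup.mk_mul, hc]

theorem facts_coOne0 {p : ℕ} (hp : p.Prime) (hp5 : 5 ≤ p) : Facts p Co1 := by
  have := H55.CoOneBd.finite_co1
  intro x hx
  have hd : p ∣ 4157776806543360000 := by rw [← card_co1, ← hx]; exact orderOf_dvd_natCard x
  have hd' : p ∣ 2 ^ 21 * (3 ^ 9 * (5 ^ 4 * (7 ^ 2 * (11 * (13 * 23))))) := hd.trans (by norm_num)
  have key : p = 5 ∨ p = 7 ∨ p = 11 ∨ p = 13 ∨ p = 23 := by
    rcases hp.dvd_mul.1 hd' with h | h
    · have := Nat.le_of_dvd (by norm_num) (hp.dvd_of_dvd_pow h); omega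
    rcases hp.dvd_mul.1 h with h | h
    · have := Nat.le_of_dvd (by norm_num) (hp.dvd_of_dvd_pow h); omega
    rcases hp.dvd_mul.1 h with h | h
    · have := Nat.le_of_dvd (by norm_num) (hp.dvd_of_dvd_pow h); omega
    rcases hp.dvd_mul.1 h with h | h
    · have := (Nat.prime_dvd_prime_iff_eq hp (by norm_num)).1 (hp.dvd_of_dvd_pow h); omega
    rcases hp.dvd_mul.1 h with h | h
    · have := (Nat.prime_dvd_prime_iff_eq hp (by norm_num)).1 h; omega
    rcases hp.dvd_mul.1 h with h | h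
    · have := (Nat.prime_dvd_prime_iff_eq hp (by norm_num)).1 h; omega
    · have := (Nat.prime_dvd_prime_iff_eq hp (by norm_num)).1 h; omega
  rcases key with rfl | rfl | rfl | rfl | rfl
  · exact Or.inl (Ev.of_even (coOne_five hx))
  · exact Or.inl (Ev.of_even (CoOneSeven.even_seven hx))
  · exact Or.inl (Ev.of_even (coOne_eleven hx))
  · exact Or.inl (Ev.of_even (coOne_thirteen hx))
  · obtain ⟨a, rfl, ha, hao⟩ := exists_lift (by norm_num) (by norm_num) hx
    have h1 := H604.Cop.Conway.card_cent_co0 hao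
    have h2 := (Nat.le_of_dvd Nat.card_pos (card_cent_dvd (by decide) ha)).trans h1
    obtain ⟨k, hk⟩ := dvd_card_centralizer hx
    have hpos : 0 < Nat.card (centralizer ({(QuotientGroup.mk a : Co1)} : Set Co1)) := Nat.card_pos
    have hk2 : k = 1 ∨ k = 2 := by omega
    rcases hk2 with rfl | rfl
    · exact Or.inr (Or.inl (Sm.of_card (by norm_num) (by norm_num) (by rw [hk]) (by rw [card_co1]; norm_num)))
    · exact Or.inl (Ev.of_even (by rw [hk]; norm_num))

/-- **the facts of `Co1`** -/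
theorem facts_coOne {p : ℕ} (hp : p.Prime) (hp5 : 5 ≤ p) {G : Type u} [Group G] (h : Spor.IsoCo1 G) : Facts p G := by
  obtain ⟨e⟩ := h
  exact Facts.congr e.symm (facts_coOne0 hp hp5)

end Cfsg.Agent.H874.Tor
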