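import Cfsg.Agent.H874.Tor.Suz
import Cfsg.Agent.H874.Tor.CoOne
import Cfsg.Agent.H874.Tor.CoTwoThree

/-!
# S3235: the facts of `Co1`, `Co2`, `Co3`, `Suz` (helper874, task 2768)

`facts_coOne`, `facts_coTwo`, `facts_coThree`, `facts_suz` : for all primes `p ≥ 5`.
-/
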