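import Cfsg.Agent.H874.Tor.CoT
import Cfsg.Agent.PreUniqCo.FixBound

/-!
# Elements of order 5 and fixed rank 4 of `Co0` (helper874, task 2768)

`exists_four` : there is an involution commuting with `x` and acting trivially on the fixed vectors of `x`.
-/

set_option autoImplicit false
set_option maxRecDepth 20000

namespace Cfsg.Agent.H874.Tor.CoFour

open Cfsg Cfsg.Agent.H874.Tor.CoT
open Cfsg.Agent.CoFive.Class
open Cfsg.Agent.CoFive.Dims (tr8_isConj tr8_r4 finrank_r4 isConj_of_finrank)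
open Cfsg.Agent.Co2Type.Mono (tr8 tr8_conj)
open Cfsg.Agent.SigZeroCo2.Rank (fix mem_fix)
open Cfsg.Agent.SigZeroCo2.Lin (rep Sp trace_rep tr8_one trace_one)
open Cfsg.Agent.PreUniqCo.FixBound (mem_fix_tau)
open Module (finrank)

theorem tt_sq : tt * tt = 1 := by
  have h := word k_sq
  simp only [List.map_cons, List.map_nil, List.prod_cons, List.prod_nil, mul_one] at h
  exact h

theorem tt_r4 : tt * r4 = r4 * tt := by
  have h := word k_comm
  simp only [List.map_cons, List.map_nil, List.prod_cons, List.prod_nil, mul_one] at h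
  exact h

theorem tr8_tt : tr8 tt = 64 := by
  have h := PreUniqCo.TrWord.tr8_word repM [0]
  simp only [List.map_cons, List.map_nil, List.prod_cons, List.prod_nil, mul_one] at h
  exact h.trans k_tr.1.1

theorem tr8_1 : tr8 (r4 * tt) = 24 := by
  have h := PreUniqCo.TrWord.tr8_word repM [1, 0]
  simp only [List.map_cons, List.map_nil, List.prod_cons, List.prod_nil, mul_one] at h
  exact h.trans k_tr.1.2

theorem tr8_2 : tr8 (r4 ^ 2 * tt) = 24 := by
  have h := PreUniqCo.TrWord.tr8_word repM [1, 1, 0]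
  simp only [List.map_cons, List.map_nil, List.prod_cons, List.prod_nil, mul_one] at h
  rw [pow_two, mul_assoc]
  exact h.trans k_tr.2.1.1

theorem tr8_3 : tr8 (r4 ^ 3 * tt) = 24 := by
  have h := PreUniqCo.TrWord.tr8_word repM [1, 1, 1, 0]
  simp only [List.map_cons, List.map_nil, List.prod_cons, List.prod_nil, mul_one] at h
  rw [pow_succ, pow_two, mul_assoc, mul_assoc]
  exact h.trans k_tr.2.1.2

theorem tr8_4 : tr8 (r4 ^ 4 * tt) = 24 := by
  have h := PreUniqCo.TrWord.tr8_word repM [1, 1, 1, 1, 0]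
  simp only [List.map_cons, List.map_nil, List.prod_cons, List.prod_nil, mul_one] at h
  rw [pow_succ, pow_succ, pow_two, mul_assoc, mul_assoc, mul_assoc]
  exact h.trans k_tr.2.2

theorem tt_ne : tt ≠ 1 := by
  intro h
  have h1 := tr8_tt
  rw [h, tr8_one] at h1
  norm_num at h1

theorem order_tt : orderOf tt = 2 := orderOf_eq_prime (by rw [pow_two, tt_sq]) tt_ne

theorem r4_pow : r4 ^ 5 = 1 := by rw [← order_r4, pow_orderOf_eq_one]

theorem tr8_pow {n : ℕ} (hn : n % 5 ≠ 0) : tr8 (r4 ^ n) = -8 := by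
  rw [tr8_isConj (isConj_pow order_r4 hn), tr8_r4]

theorem finrank_u : finrank ℚ (fix (rep (r4 * tt))) = 4 := by
  have hc : Commute r4 tt := tt_r4.symm
  have hp : ∀ i, (r4 * tt) ^ i = r4 ^ i * tt ^ i := fun i => hc.mul_pow i
  have t2 : tt ^ 2 = 1 := by rw [pow_two, tt_sq]
  have te : ∀ i, tt ^ (2 * i) = 1 := fun i => by rw [pow_mul, t2, one_pow]
  have tO : ∀ i, tt ^ (2 * i + 1) = tt := fun i => by rw [pow_succ, te, one_mul]
  have re : ∀ i, r4 ^ (5 + i) = r4 ^ i := fun i => by rw [pow_add, r4_pow, one_mul]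
  have h10 : (r4 * tt) ^ 10 = 1 := by
    rw [hp, te 5, mul_one, re 5, r4_pow]
  have h := CoFive.FixRank.mul_finrank (g := r4 * tt) (n := 10) (by norm_num) h10
  have e0 : tr8 ((r4 * tt) ^ 0) = 192 := by rw [pow_zero, tr8_one]
  have e1 : tr8 ((r4 * tt) ^ 1) = 24 := by rw [pow_one, tr8_1]
  have e2 : tr8 ((r4 * tt) ^ 2) = -8 := by rw [hp, te 1, mul_one, tr8_pow (by norm_num)]
  have e3 : tr8 ((r4 * tt) ^ 3) = 24 := by rw [hp, tO 1, tr8_3]
  have e4 : tr8 ((r4 * tt) ^ 4) = -8 := by rw [hp, te 2, mul_one, tr8_pow (by norm_num)]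
  have e5 : tr8 ((r4 * tt) ^ 5) = 64 := by rw [hp, tO 2, r4_pow, one_mul, tr8_tt]
  have e6 : tr8 ((r4 * tt) ^ 6) = -8 := by rw [hp, te 3, mul_one, tr8_pow (by norm_num)]
  have e7 : tr8 ((r4 * tt) ^ 7) = 24 := by rw [hp, tO 3, re 2, tr8_2]
  have e8 : tr8 ((r4 * tt) ^ 8) = -8 := by rw [hp, te 4, mul_one, tr8_pow (by norm_num)]
  have e9 : tr8 ((r4 * tt) ^ 9) = 24 := by rw [hp, tO 4, re 4, tr8_4]
  rw [Finset.sum_range_succ, Finset.sum_range_succ, Finset.sum_range_succ, Finset.sum_range_succ,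
    Finset.sum_range_succ, Finset.sum_range_succ, Finset.sum_range_succ, Finset.sum_range_succ,
    Finset.sum_range_succ, Finset.sum_range_succ, Finset.sum_range_zero, e0, e1, e2, e3, e4, e5, e6, e7, e8, e9] at h
  push_cast at h
  omega

theorem fix_pow {f : Module.End ℚ Sp} {v : Sp} (h : f v = v) (n : ℕ) : (f ^ n) v = v := by
  induction n with
  | zero => rfl
  | succ n ih => rw [pow_succ, Module.End.mul_apply, h, ih]

/-- the involution acts trivially on the fixed space of `r4` -/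
theorem fix_le : fix (rep r4) ≤ fix (rep tt) := by
  have hc : Commute r4 tt := tt_r4.symm
  have t2 : tt ^ 2 = 1 := by rw [pow_two, tt_sq]
  have u6 : (r4 * tt) ^ 6 = r4 := by
    rw [hc.mul_pow, show 6 = 2 * 3 by norm_num, pow_mul tt, t2, one_pow, mul_one, show 2 * 3 = 5 + 1 by norm_num,
      pow_succ, r4_pow, one_mul]
  have u5 : (r4 * tt) ^ 5 = tt := by
    rw [hc.mul_pow, r4_pow, one_mul, show 5 = 2 * 2 + 1 by norm_num, pow_succ, pow_mul, t2, one_pow, one_mul]
  have h1 : fix (rep (r4 * tt)) ≤ fix (rep r4) := by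
    intro v hv
    rw [mem_fix] at hv ⊢
    have := fix_pow hv 6
    rwa [← map_pow, u6] at this
  have h2 : fix (rep (r4 * tt)) = fix (rep r4) :=
    Submodule.eq_of_le_of_finrank_le h1 (by rw [finrank_u]; exact finrank_r4.le)
  intro v hv
  rw [← h2, mem_fix] at hv
  rw [mem_fix]
  have := fix_pow hv 5
  rwa [← map_pow, u5] at this

theorem tt_smul {v : leechLattice} (h : r4 • v = v) : tt • v = v :=
  mem_fix_tau.1 (fix_le (mem_fix_tau.2 h))

/-- **fixed rank four** -/
theorem exists_four {x : Co0} (hx : orderOf x = 5) (h4 : finrank ℚ (fix (rep x)) = 4) :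
    ∃ t : Co0, orderOf t = 2 ∧ t * x = x * t ∧ ∀ v : leechLattice, x • v = v → t • v = v := by
  obtain ⟨g, hg⟩ := isConj_iff.1 (isConj_of_finrank hx order_r4 (by rw [h4]; exact finrank_r4.symm))
  have hxg : x = g⁻¹ * r4 * g := by rw [← hg]; group
  refine ⟨g⁻¹ * tt * g, ?_, ?_, ?_⟩
  · have h1 : orderOf (MulAut.conj g⁻¹ tt) = orderOf tt := MulEquiv.orderOf_eq _ _
    rw [order_tt, MulAut.conj_apply, inv_inv] at h1
    exact h1
  · rw [hxg]
    calc g⁻¹ * tt * g * (g⁻¹ * r4 * g) = g⁻¹ * (tt * r4) * g := by group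
      _ = g⁻¹ * (r4 * tt) * g := by rw [tt_r4]
      _ = _ := by group
  · intro v hv
    have h1 : r4 • (g • v) = g • v := by
      rw [← hg, mul_smul, mul_smul, inv_smul_smul, hv]
    have h2 := tt_smul h1
    rw [mul_smul, mul_smul, h2, inv_smul_smul]

end Cfsg.Agent.H874.Tor.CoFour
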