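import Cfsg.Agent.H874.Tor.CoSevenMat
import Cfsg.Agent.H874.Tor.Tools
import Cfsg.Agent.CoFive.Dims

/-!
# The elements of order 7 of `Co0` (helper874, task 2768)

`main` : an element of order 7 of `Co0` is conjugate to a power of `r` or of `w`.
-/

set_option autoImplicit false
set_option maxRecDepth 20000

namespace Cfsg.Agent.H874.Tor.CoSeven

open Cfsg Subgroup
open Cfsg.Agent.H874.Tor.CoSevenMat Cfsg.Agent.LThreeCo1.Ev

/-! ### Two commuting elements of order seven -/

section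

variable {G : Type*} [Group G]

/-- `r ^ i * w ^ j` -/
def P (r w : G) (v : ℕ × ℕ) : G := r ^ v.1 * w ^ v.2

variable {r w : G}

theorem pow_mod (hr : r ^ 7 = 1) (n : ℕ) : r ^ (n % 7) = r ^ n := by
  conv_rhs => rw [← Nat.mod_add_div n 7, pow_add, pow_mul, hr, one_pow, mul_one]

theorem P_mod (hr : r ^ 7 = 1) (hw : w ^ 7 = 1) (i j : ℕ) : P r w (i % 7, j % 7) = P r w (i, j) := by
  unfold P
  rw [pow_mod hr, pow_mod hw]

theorem conj_P (hc : Commute r w) {g : G} {a b c d : ℕ} (h1 : g * r * g⁻¹ = P r w (a, b)) (h2 : g * w * g⁻¹ = P r w (c, d))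
    (i j : ℕ) : g * P r w (i, j) * g⁻¹ = P r w (a * i + c * j, b * i + d * j) := by
  have e1 : g * P r w (i, j) * g⁻¹ = (g * r * g⁻¹) ^ i * (g * w * g⁻¹) ^ j := by
    rw [conj_pow, conj_pow]
    unfold P
    group
  have e2 : ∀ m n k : ℕ, (P r w (m, n)) ^ k = r ^ (m * k) * w ^ (n * k) := by
    intro m n k
    unfold P
    rw [(hc.pow_pow m n).mul_pow, pow_mul, pow_mul]
  rw [e1, h1, h2, e2, e2]
  unfold P
  rw [pow_add, pow_add]
  have h3 : w ^ (b * i) * r ^ (c * j) = r ^ (c * j) * w ^ (b * i) := (hc.pow_pow _ _).eq.symm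
  calc r ^ (a * i) * w ^ (b * i) * (r ^ (c * j) * w ^ (d * j))
      = r ^ (a * i) * (w ^ (b * i) * r ^ (c * j)) * w ^ (d * j) := by simp only [mul_assoc]
    _ = _ := by rw [h3]; simp only [mul_assoc]

theorem P_mul (hc : Commute r w) (i j k l : ℕ) : P r w (i, j) * P r w (k, l) = P r w (i + k, j + l) := by
  unfold P
  rw [pow_add, pow_add]
  have h3 : w ^ j * r ^ k = r ^ k * w ^ j := (hc.pow_pow _ _).eq.symm
  calc r ^ i * w ^ j * (r ^ k * w ^ l) = r ^ i * (w ^ j * r ^ k) * w ^ l := by simp only [mul_assoc]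
    _ = _ := by rw [h3]; simp only [mul_assoc]

theorem P_seven (hc : Commute r w) (hr : r ^ 7 = 1) (hw : w ^ 7 = 1) (v : ℕ × ℕ) : P r w v ^ 7 = 1 := by
  unfold P
  rw [(hc.pow_pow _ _).mul_pow, ← pow_mul, ← pow_mul, mul_comm v.1, mul_comm v.2, pow_mul, pow_mul, hr, hw, one_pow,
    one_pow, one_mul]

/-- the group generated -/
def S (hc : Commute r w) (hr : r ^ 7 = 1) (hw : w ^ 7 = 1) : Subgroup G where
  carrier := {g | ∃ v : ℕ × ℕ, g = P r w v}
  one_mem' := ⟨(0, 0), by simp [P]⟩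
  mul_mem' := by
    rintro _ _ ⟨⟨i, j⟩, rfl⟩ ⟨⟨k, l⟩, rfl⟩
    exact ⟨_, P_mul hc i j k l⟩
  inv_mem' := by
    rintro _ ⟨⟨i, j⟩, rfl⟩
    refine ⟨(6 * i, 6 * j), ?_⟩
    rw [inv_eq_iff_mul_eq_one, P_mul hc]
    have e1 : i + 6 * i = 7 * i := by ring
    have e2 : j + 6 * j = 7 * j := by ring
    unfold P
    rw [e1, e2, pow_mul, pow_mul, hr, hw, one_pow, one_pow, one_mul]

theorem card_S [Finite G] (hc : Commute r w) (hr : r ^ 7 = 1) (hw : w ^ 7 = 1) (hr1 : r ≠ 1) (hn : w ∉ zpowers r)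
    (h3 : ¬ 7 ^ 3 ∣ Nat.card G) : Nat.card (S hc hr hw) = 7 ^ 2 ∧ IsPGroup 7 (S hc hr hw) := by
  have h7 : Fact (Nat.Prime 7) := ⟨by norm_num⟩
  have hp : IsPGroup 7 (S hc hr hw) := by
    rintro ⟨_, v, rfl⟩
    exact ⟨1, Subtype.ext (by rw [pow_one]; exact P_seven hc hr hw v)⟩
  obtain ⟨n, hn'⟩ := hp.exists_card_eq
  have ho : orderOf r = 7 := orderOf_eq_prime hr hr1
  have hle : zpowers r ≤ S hc hr hw := by
    rw [zpowers_le]
    exact ⟨(1, 0), by simp [P]⟩
  have hwS : w ∈ S hc hr hw := ⟨(0, 1), by simp [P]⟩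
  have hlt : zpowers r < S hc hr hw := lt_of_le_of_ne hle fun h => hn (h ▸ hwS)
  have hcard : Nat.card (zpowers r) < Nat.card (S hc hr hw) := by
    refine lt_of_le_of_ne (Subgroup.card_le_of_le hle) fun h => ?_
    exact hlt.ne (Subgroup.eq_of_le_of_card_ge hle h.ge)
  rw [Nat.card_zpowers, ho, hn'] at hcard
  have hn2 : n < 3 := by
    by_contra hge
    apply h3
    calc 7 ^ 3 ∣ 7 ^ n := pow_dvd_pow 7 (by omega)
      _ ∣ Nat.card G := by rw [← hn']; exact card_subgroup_dvd_card _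
  have hn3 : n ≠ 0 := by rintro rfl; norm_num at hcard
  have hn4 : n ≠ 1 := by rintro rfl; norm_num at hcard
  obtain rfl : n = 2 := by omega
  exact ⟨hn', hp⟩

theorem exists_conj [Finite G] (hc : Commute r w) (hr : r ^ 7 = 1) (hw : w ^ 7 = 1) (hr1 : r ≠ 1) (hn : w ∉ zpowers r)
    (h3 : ¬ 7 ^ 3 ∣ Nat.card G) {a : G} (ha : orderOf a = 7) :
    ∃ i < 7, ∃ j < 7, (i, j) ≠ (0, 0) ∧ IsConj a (P r w (i, j)) := by
  have h7 : Fact (Nat.Prime 7) := ⟨by norm_num⟩
  obtain ⟨hS, hp⟩ := card_S hc hr hw hr1 hn h3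
  have hf : (Nat.card G).factorization 7 = 2 := by
    have h0 : Nat.card G ≠ 0 := Nat.card_pos.ne'
    have h4 : 2 ≤ (Nat.card G).factorization 7 :=
      (h7.out.pow_dvd_iff_le_factorization h0).1 (by rw [← hS]; exact card_subgroup_dvd_card _)
    have h5 : ¬ 3 ≤ (Nat.card G).factorization 7 := fun h => h3 ((h7.out.pow_dvd_iff_le_factorization h0).2 h)
    omega
  let T : Sylow 7 G := Sylow.ofCard (S hc hr hw) (by rw [hS, hf])
  have hz : IsPGroup 7 (zpowers a) := IsPGroup.of_card (n := 1) (by rw [Nat.card_zpowers, ha, pow_one])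
  obtain ⟨U, hU⟩ := hz.exists_le_sylow
  obtain ⟨d, hd⟩ := MulAction.exists_smul_eq G U T
  have h1 : d * a * d⁻¹ ∈ (T : Subgroup G) := by
    rw [← hd]
    exact ⟨a, hU (mem_zpowers a), rfl⟩
  obtain ⟨⟨i, j⟩, hv⟩ : ∃ v : ℕ × ℕ, d * a * d⁻¹ = P r w v := h1
  have hne : d * a * d⁻¹ ≠ 1 := by
    intro h
    have : a = 1 := by
      calc a = d⁻¹ * (d * a * d⁻¹) * d := by group
        _ = 1 := by rw [h]; group
    rw [this, orderOf_one] at ha
    norm_num at ha
  refine ⟨i % 7, Nat.mod_lt _ (by norm_num), j % 7, Nat.mod_lt _ (by norm_num), ?_, ?_⟩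
  · intro h
    apply hne
    rw [hv, ← P_mod hr hw, h]
    simp [P]
  · rw [P_mod hr hw]
    exact isConj_iff.2 ⟨d, hv⟩

end

/-! ### The elements of `Co0` -/

/-- fixed rank 6 -/
noncomputable abbrev r : Co0 := e 0
/-- fixed rank 0 -/
noncomputable abbrev w : Co0 := e 1

theorem comm : Commute r w := by
  have h := word k_comm
  simp only [List.map_cons, List.map_nil, List.prod_cons, List.prod_nil, mul_one] at h
  exact h

theorem r_pow : r ^ 7 = 1 := by
  have h := word k_r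
  simp only [List.map_cons, List.map_nil, List.prod_cons, List.prod_nil, mul_one] at h
  simp only [pow_succ, pow_zero, one_mul, mul_assoc]
  exact h

theorem w_pow : w ^ 7 = 1 := by
  have h := word k_w
  simp only [List.map_cons, List.map_nil, List.prod_cons, List.prod_nil, mul_one] at h
  simp only [pow_succ, pow_zero, one_mul, mul_assoc]
  exact h

theorem conj_of {g x : ℕ} {a b : ℕ} (h : eqB M [g, x] (List.replicate a 0 ++ (List.replicate b 1 ++ [g])) = true) :
    e g * e x * (e g)⁻¹ = P r w (a, b) := by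
  have h1 := word h
  simp only [List.map_append, List.prod_append, List.map_replicate, List.prod_replicate, List.map_cons, List.map_nil,
    List.prod_cons, List.prod_nil, mul_one] at h1
  rw [h1, ← mul_assoc, mul_inv_cancel_right]
  rfl

/-- the action on the exponents -/
def st (v : ℕ × ℕ) (b : Bool) : ℕ × ℕ :=
  if b then ((5 * v.1 + 3 * v.2) % 7, (0 * v.1 + 6 * v.2) % 7) else ((1 * v.1 + 3 * v.2) % 7, (4 * v.1 + 6 * v.2) % 7)

theorem isConj_st (v : ℕ × ℕ) (b : Bool) : IsConj (P r w v) (P r w (st v b)) := by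
  obtain ⟨i, j⟩ := v
  unfold st
  cases b
  · rw [if_neg (by decide), P_mod r_pow w_pow, isConj_iff]
    exact ⟨e 3, conj_P comm (conj_of k_qr) (conj_of k_qw) i j⟩
  · rw [if_pos rfl, P_mod r_pow w_pow, isConj_iff]
    exact ⟨e 2, conj_P comm (conj_of k_hr) (conj_of k_hw) i j⟩

theorem isConj_path (l : List Bool) (v : ℕ × ℕ) : IsConj (P r w v) (P r w (l.foldl st v)) := by
  induction l generalizing v with
  | nil => exact IsConj.refl _
  | cons b l ih =>
    rw [List.foldl_cons]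
    exact (isConj_st v b).trans (ih _)

/-- paths -/
def paths : List (List Bool) := [[], [true], [false], [true, true], [true, false], [false, true], [false, false],
  [true, true, true], [true, true, false], [true, false, true], [true, false, false], [false, true, true],
  [false, true, false], [false, false, true], [false, false, false]]

/-- on an axis -/
def good (v : ℕ × ℕ) : Bool := (v.2 % 7 == 0 && v.1 % 7 != 0 && v.2 == 0) || (v.1 % 7 == 0 && v.2 % 7 != 0 && v.1 == 0)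

theorem k_path : ∀ i < 7, ∀ j < 7, (i = 0 ∧ j = 0) ∨ ∃ l ∈ paths, good (l.foldl st (i, j)) = true := by decide +kernel

theorem w_not_mem : w ∉ zpowers r := by
  intro h
  rw [mem_zpowers_iff] at h
  obtain ⟨k, hk⟩ := h
  obtain ⟨n, hn, hkn⟩ : ∃ n < 7, r ^ k = r ^ n := by
    refine ⟨(k % 7).toNat, by omega, ?_⟩
    have h1 : r ^ k = r ^ (k % 7) := by
      conv_lhs => rw [← Int.emod_add_mul_ediv k 7, zpow_add, zpow_mul]
      have : r ^ (7 : ℤ) = 1 := by exact_mod_cast r_pow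
      rw [this, one_zpow, mul_one]
    rw [h1, ← zpow_natCast, Int.toNat_of_nonneg (by omega)]
  rw [hkn] at hk
  have hne := k_ne
  simp only [Bool.and_eq_true] at hne
  have key : ∀ m : ℕ, neB' M [1] (List.replicate m 0) = true → r ^ m ≠ w := by
    intro m hm hmw
    have h1 := ne_of_neB' repM hm
    apply h1
    simp only [List.map_replicate, List.prod_replicate, List.map_cons, List.map_nil, List.prod_cons, List.prod_nil,
      mul_one]
    exact hmw.symm
  interval_cases n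
  · exact key 0 hne.1.1.1.1.1.1.2 hk
  · exact key 1 hne.1.1.1.1.1.2 hk
  · exact key 2 hne.1.1.1.1.2 hk
  · exact key 3 hne.1.1.1.2 hk
  · exact key 4 hne.1.1.2 hk
  · exact key 5 hne.1.2 hk
  · exact key 6 hne.2 hk

theorem r_ne : r ≠ 1 := by
  have hne := k_ne
  simp only [Bool.and_eq_true] at hne
  have h1 := ne_of_neB' repM hne.1.1.1.1.1.1.1
  intro h
  apply h1
  simp only [List.map_cons, List.map_nil, List.prod_cons, List.prod_nil, mul_one]
  exact h

/-- **elements of order seven** -/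
theorem main {a : Co0} (ha : orderOf a = 7) : ∃ k, k % 7 ≠ 0 ∧ (IsConj a (r ^ k) ∨ IsConj a (w ^ k)) := by
  have := CoFive.Class.finite_co0
  obtain ⟨i, hi, j, hj, hij, hc⟩ := exists_conj comm r_pow w_pow r_ne w_not_mem (by rw [S0397.result]; norm_num) ha
  rcases k_path i hi j hj with ⟨rfl, rfl⟩ | ⟨l, -, hl⟩
  · exact absurd rfl hij
  · have h1 := hc.trans (isConj_path l (i, j))
    obtain ⟨⟨x, y⟩, hv⟩ : ∃ v, v = l.foldl st (i, j) := ⟨_, rfl⟩
    rw [← hv] at h1 hl
    unfold good at hl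
    simp only [Bool.or_eq_true, Bool.and_eq_true, beq_iff_eq, bne_iff_ne] at hl
    rcases hl with ⟨⟨-, h2⟩, h3⟩ | ⟨⟨-, h2⟩, h3⟩
    · refine ⟨x, h2, Or.inl ?_⟩
      subst h3
      simpa [P] using h1
    · refine ⟨y, h2, Or.inr ?_⟩
      subst h3
      simpa [P] using h1

end Cfsg.Agent.H874.Tor.CoSeven
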