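import Cfsg.Agent.CpAutMSeven.RanksH
import Cfsg.Agent.LThreeCo1.Ev

/-!
# The Sylow 7-subgroup of `Co0` (helper874, task 2768; matrix generated)

`r, w` of order 7 commute; `h` and `q` normalize `⟨r, w⟩`.
-/

set_option autoImplicit false
set_option maxRecDepth 20000

namespace Cfsg.Agent.H874.Tor.CoSevenMat

open Cfsg Cfsg.Agent.LThreeCo1.Ev Cfsg.Agent.SporadicStructure.Co0Matrix Cfsg.Agent.CoOneType.CoEval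
open Cfsg.Agent.CpAutMSeven

/-- the matrix of `q` -/
def rQ : List (List ℤ) := [
  [0, 0, 2, -2, 0, 2, -2, 0, 0, 2, -2, -2, 2, -4, 0, 0, 2, 0, 0, -2, 0, 0, 2, 2],
  [0, 0, -2, -2, 0, 2, 2, 0, 0, 2, 2, -2, 2, 0, 0, -4, -2, 0, 0, 2, 0, 0, 2, -2],
  [0, 0, -2, 2, 0, 2, -2, 0, 0, 2, -2, 2, 2, 0, 0, 0, -2, 0, 0, 2, -4, 0, -2, 2],
  [-4, 0, 2, -2, 0, 2, 2, 0, 0, 2, -2, 2, -2, 0, 0, 0, 2, 0, 0, 2, 0, 0, -2, -2],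
  [2, 2, 4, 0, 2, 0, 0, -2, 2, 0, 0, 0, 0, 2, -2, -2, 0, -2, 2, 0, -2, 2, 0, 0],
  [2, -2, 0, 0, 2, 4, 0, -2, -2, 0, 0, 0, 0, 2, -2, 2, 0, 2, -2, 0, 2, 2, 0, 0],
  [0, -4, 2, -2, 0, -2, 2, 0, 0, 2, 2, 2, 2, 0, 0, 0, -2, 0, 0, -2, 0, 0, -2, 2],
  [0, 0, -2, -2, 0, 2, 2, 0, 0, -2, -2, -2, -2, 0, 0, 0, -2, -4, 0, -2, 0, 0, -2, 2],
  [0, 0, 2, 2, -4, 2, 2, 0, 0, -2, -2, 2, 2, 0, 0, 0, -2, 0, 0, -2, 0, 0, 2, -2],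
  [2, 2, 0, 0, 2, 0, 0, 2, -2, 0, 0, 4, 0, -2, 2, -2, 0, -2, -2, 0, 2, 2, 0, 0],
  [0, 0, -2, -2, 0, -2, -2, 0, 0, 2, -2, 2, -2, 0, -4, 0, -2, 0, 0, -2, 0, 0, 2, -2],
  [-2, -2, 0, 0, 2, 0, 0, 2, 2, 0, 0, 0, 0, 2, 2, 2, 0, -2, -2, 0, -2, 2, 4, 0],
  [2, -2, 0, 0, -2, 0, 0, 2, -2, 0, 0, 0, 0, 2, -2, -2, 4, -2, -2, 0, -2, -2, 0, 0],
  [-2, -2, 0, 4, 2, 0, 0, -2, 2, 0, 0, 0, 0, -2, -2, -2, 0, -2, -2, 0, 2, -2, 0, 0],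
  [0, 0, -2, -2, 0, -2, 2, -4, 0, -2, -2, 2, 2, 0, 0, 0, 2, 0, 0, 2, 0, 0, 2, 2],
  [-2, 2, 0, 0, -2, 0, 0, 2, 2, 0, 0, 0, 0, 2, -2, -2, 0, 2, -2, 0, 2, 2, 0, 4],
  [2, 2, 0, 0, 2, 0, 4, 2, 2, 0, 0, 0, 0, -2, -2, 2, 0, 2, -2, 0, -2, -2, 0, 0],
  [0, 0, 2, -2, 0, -2, -2, 0, 0, -2, -2, -2, 2, 0, 0, 0, -2, 0, -4, 2, 0, 0, -2, -2],
  [-2, 2, 0, 0, -2, 0, 0, -2, -2, 0, 4, 0, 0, -2, -2, 2, 0, -2, -2, 0, -2, 2, 0, 0],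
  [0, 0, 2, -2, 0, 2, -2, 0, 0, -2, 2, 2, -2, 0, 0, 0, -2, 0, 0, 2, 0, -4, 2, 2],
  [2, -2, 0, 0, -2, 0, 0, 2, 2, 0, 0, 0, 0, -2, -2, 2, 0, -2, 2, 4, 2, 2, 0, 0],
  [-2, 2, 0, 0, 2, 0, 0, 2, -2, 0, 0, 0, 4, 2, -2, 2, 0, -2, 2, 0, 2, -2, 0, 0],
  [0, 0, 2, 2, 0, -2, 2, 0, -4, 2, -2, -2, -2, 0, 0, 0, -2, 0, 0, 2, 0, 0, 2, 2],
  [2, 2, 0, 0, -2, 0, 0, -2, 2, 4, 0, 0, 0, 2, 2, 2, 0, -2, -2, 0, 2, -2, 0, 0]]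

theorem okQ : Ok rQ (tr rQ) := Cfsg.Agent.CoOneType.CoFast.ok_of_okZ (by decide +kernel)

/-- the matrices -/
def M : ℕ → List (List ℤ)
  | 0 => Mat.rR
  | 1 => Mat.rW
  | 2 => Mat.rH
  | _ => rQ

/-- the elements -/
noncomputable def e : ℕ → Co0
  | 0 => mk Mat.okR
  | 1 => mk Mat.okW
  | 2 => mk Mat.okH
  | _ => mk okQ

theorem repM : ∀ i, Rep (e i) (M i)
  | 0 => rep_mk Mat.okR
  | 1 => rep_mk Mat.okW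
  | 2 => rep_mk Mat.okH
  | _ + 3 => rep_mk okQ

theorem k_comm : eqB M [0, 1] [1, 0] = true := by decide +kernel
theorem k_r : eqB M [0, 0, 0, 0, 0, 0, 0] [] = true := by decide +kernel
theorem k_w : eqB M [1, 1, 1, 1, 1, 1, 1] [] = true := by decide +kernel
theorem k_hr : eqB M [2, 0] [0, 0, 0, 0, 0, 2] = true := by decide +kernel
theorem k_hw : eqB M [2, 1] [0, 0, 0, 1, 1, 1, 1, 1, 1, 2] = true := by decide +kernel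
theorem k_qr : eqB M [3, 0] [0, 1, 1, 1, 1, 3] = true := by decide +kernel
theorem k_qw : eqB M [3, 1] [0, 0, 0, 1, 1, 1, 1, 1, 1, 3] = true := by decide +kernel
theorem k_ne : (neB' M [0] [] && neB' M [1] [] && neB' M [1] [0] && neB' M [1] [0, 0] && neB' M [1] [0, 0, 0] &&
    neB' M [1] [0, 0, 0, 0] && neB' M [1] [0, 0, 0, 0, 0] && neB' M [1] [0, 0, 0, 0, 0, 0]) = true := by decide +kernel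

theorem word {w w' : List ℕ} (h : eqB M w w' = true) : (w.map e).prod = (w'.map e).prod := eq_of_eqB repM h

end Cfsg.Agent.H874.Tor.CoSevenMat
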