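import Cfsg.Agent.CoFive.Dims
import Cfsg.Agent.CoFive.Ranks
import Cfsg.Agent.CoFive.FixRank

/-!
# An involution centralizing an element of order 5 and its fixed space (helper874, task 2768; matrix generated)

`tt` is an involution of `Co0` commuting with `r4` (order 5, fixed rank 4) and acting trivially on the fixed space of
`r4`.
-/

set_option autoImplicit false
set_option maxRecDepth 20000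

namespace Cfsg.Agent.H874.Tor.CoT

open Cfsg Cfsg.Agent.LThreeCo1.Ev Cfsg.Agent.SporadicStructure.Co0Matrix Cfsg.Agent.CoOneType.CoEval
open Cfsg.Agent.CoFive.Mats Cfsg.Agent.CoFive.Class
open Cfsg.Agent.Co2Type.Mono (tr8 tr8_conj)
open Cfsg.Agent.SigZeroCo2.Rank (fix mem_fix)
open Cfsg.Agent.SigZeroCo2.Lin (rep Sp trace_rep tr8_one trace_one)
open Module (finrank)

/-- the matrix of the involution -/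
def T1 : List (List ℤ) := [
  [0, 2, 2, 2, 2, 2, 2, -2, 0, 2, 0, -2, 2, 0, 2, -2, 0, 0, 2, 0, 2, -2, 0, 2],
  [2, 4, 0, 0, 0, 0, 0, 0, -2, 0, 2, 4, 0, 2, 0, 0, 2, -2, 0, -2, 0, 0, -2, 0],
  [2, 0, 4, 0, 0, 0, 0, 0, 2, 0, 2, 0, 0, 2, -4, 0, -2, 2, 0, -2, 0, 0, 2, 0],
  [2, 0, 0, 4, 0, 0, 0, 0, 2, 0, -2, 0, -4, 2, 0, 0, 2, -2, 0, 2, 0, 0, 2, 0],
  [2, 0, 0, 0, 4, 0, 0, 0, -2, -4, 2, 0, 0, -2, 0, 0, 2, 2, 0, 2, 0, 0, 2, 0],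
  [2, 0, 0, 0, 0, 4, -4, 0, -2, 0, -2, 0, 0, -2, 0, 0, -2, -2, 0, -2, 0, 0, 2, 0],
  [2, 0, 0, 0, 0, -4, 4, 0, -2, 0, -2, 0, 0, -2, 0, 0, -2, -2, 0, -2, 0, 0, 2, 0],
  [-2, 0, 0, 0, 0, 0, 0, 4, -2, 0, -2, 0, 0, 2, 0, 0, 2, 2, 0, -2, 0, 0, 2, 4],
  [0, -2, 2, 2, -2, -2, -2, -2, 0, -2, 0, 2, 2, 0, 2, 2, 0, 0, 2, 0, -2, -2, 0, 2],
  [2, 0, 0, 0, -4, 0, 0, 0, -2, 4, 2, 0, 0, -2, 0, 0, 2, 2, 0, 2, 0, 0, 2, 0],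
  [0, 2, 2, -2, 2, -2, -2, -2, 0, 2, 0, -2, -2, 0, 2, 2, 0, 0, -2, 0, -2, 2, 0, 2],
  [-2, 4, 0, 0, 0, 0, 0, 0, 2, 0, -2, 4, 0, -2, 0, 0, -2, 2, 0, 2, 0, 0, 2, 0],
  [2, 0, 0, -4, 0, 0, 0, 0, 2, 0, -2, 0, 4, 2, 0, 0, 2, -2, 0, 2, 0, 0, 2, 0],
  [0, 2, 2, 2, -2, -2, -2, 2, 0, -2, 0, -2, 2, 0, 2, -2, 0, 0, -2, 0, 2, 2, 0, -2],
  [2, 0, -4, 0, 0, 0, 0, 0, 2, 0, 2, 0, 0, 2, 4, 0, -2, 2, 0, -2, 0, 0, 2, 0],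
  [-2, 0, 0, 0, 0, 0, 0, 0, 2, 0, 2, 0, 0, -2, 0, 4, 2, -2, 0, -2, 4, 0, 2, 0],
  [0, 2, -2, 2, 2, -2, -2, 2, 0, 2, 0, -2, 2, 0, -2, 2, 0, 0, 2, 0, -2, -2, 0, -2],
  [0, -2, 2, -2, 2, -2, -2, 2, 0, 2, 0, 2, -2, 0, 2, -2, 0, 0, 2, 0, 2, -2, 0, -2],
  [2, 0, 0, 0, 0, 0, 0, 0, 2, 0, -2, 0, 0, -2, 0, 0, 2, 2, 4, -2, 0, 4, -2, 0],
  [0, -2, -2, 2, 2, -2, -2, -2, 0, 2, 0, 2, 2, 0, -2, -2, 0, 0, -2, 0, 2, 2, 0, 2],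
  [2, 0, 0, 0, 0, 0, 0, 0, -2, 0, -2, 0, 0, 2, 0, 4, -2, 2, 0, 2, 4, 0, -2, 0],
  [-2, 0, 0, 0, 0, 0, 0, 0, -2, 0, 2, 0, 0, 2, 0, 0, -2, -2, 4, 2, 0, 4, 2, 0],
  [0, -2, 2, 2, 2, 2, 2, 2, 0, 2, 0, 2, 2, 0, 2, 2, 0, 0, -2, 0, -2, 2, 0, -2],
  [2, 0, 0, 0, 0, 0, 0, 4, 2, 0, 2, 0, 0, -2, 0, 0, -2, -2, 0, 2, 0, 0, -2, 4]]

theorem okT : Ok T1 (tr T1) := Cfsg.Agent.CoOneType.CoFast.ok_of_okZ (by decide +kernel)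

/-- the matrices -/
def M : ℕ → List (List ℤ)
  | 0 => T1
  | _ => R1

theorem okM (i : ℕ) : Ok (M i) (tr (M i)) := by
  unfold M
  split
  · exact okT
  · exact ok1

/-- the elements -/
noncomputable def e (i : ℕ) : Co0 := mk (okM i)

theorem repM (i : ℕ) : Rep (e i) (M i) := rep_mk (okM i)

/-- **the involution** -/
noncomputable def tt : Co0 := e 0

theorem e1 : e 1 = r4 := rfl

theorem k_sq : eqB M [0, 0] [] = true := by decide +kernel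
theorem k_comm : eqB M [0, 1] [1, 0] = true := by decide +kernel
theorem k_tr : (PreUniqCo.TrWord.trW M [0] = 64 ∧ PreUniqCo.TrWord.trW M [1, 0] = 24) ∧
    (PreUniqCo.TrWord.trW M [1, 1, 0] = 24 ∧ PreUniqCo.TrWord.trW M [1, 1, 1, 0] = 24) ∧
    PreUniqCo.TrWord.trW M [1, 1, 1, 1, 0] = 24 := by decide +kernel

theorem word {w w' : List ℕ} (h : eqB M w w' = true) : (w.map e).prod = (w'.map e).prod := eq_of_eqB repM h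

end Cfsg.Agent.H874.Tor.CoT
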