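import Cfsg.Agent.CpAutSuz.Local

/-!
# `Suz`: the elements of order 5 commute with involutions (helper874, task 2768)
-/

set_option autoImplicit false
set_option maxRecDepth 100000

namespace Cfsg.Agent.H874.Tor.SuzFive

open Subgroup Cfsg
open Cfsg.Spor (Suz)
open Cfsg.Agent.Lib.PermNet Cfsg.Agent.Lib.PermNetOrbit Cfsg.Agent.SporadicRecognition.SuzPhi
  Cfsg.Agent.SporadicRecognition.SuzBound Cfsg.Agent.SporadicRecognition.SuzOrder
  Cfsg.Agent.SuzThree.Nets Cfsg.Agent.SuzThree.Basic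
open Cfsg.Agent.CpAutSuz.Fix Cfsg.Agent.CpAutSuz.Gen Cfsg.Agent.CpAutSuz.Classes Cfsg.Agent.CpAutSuz.Five

/-- involutions commuting with the elements of order 5 of `Y0` -/
def u1 : List Suz.Gen := [.c, .d, .e, .c, .d, .b, .c, .d, .e, .c, .d, .b, .c, .d, .e, .b, .c, .a, .b, .a]
def u2 : List Suz.Gen := [.c, .d, .e, .d, .c, .d, .b, .c, .d, .e, .c, .d, .b, .c, .d, .b, .c, .a, .b, .a]
def u3 : List Suz.Gen := [.d, .c, .d, .e, .c, .d, .c, .d, .b, .c, .d, .a, .b, .c, .d, .e, .c, .d, .c, .d]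
def u4 : List Suz.Gen := [.d, .c, .d, .e, .d, .c, .d, .b, .c, .d, .b, .a, .b, .c, .d, .e, .d, .c, .d, .c]

/-- the involution for `f1 ^ i * f2 ^ j` -/
def uw (i j : ℕ) : List Suz.Gen :=
  if i = 0 then u1 else if j = 0 then [.d] else
    if j = i then u2 else if j = (2 * i) % 5 then [.a] else if j = (3 * i) % 5 then u3 else u4

/-- the image of 4 -/
def uq (i j : ℕ) : ℕ :=
  if i = 0 then 709 else if j = 0 then 8 else
    if j = i then 497 else if j = (2 * i) % 5 then 7 else if j = (3 * i) % 5 then 555 else 389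

theorem uq_ne (i j : ℕ) : 4 ≠ uq i j := by
  unfold uq
  split_ifs <;> decide

noncomputable def chk (i j : ℕ) : Bool :=
  and (checkEq 11 (wd (uw i j) ++ (wpow (wd w1) i ++ wpow (wd w2) j)) ((wpow (wd w1) i ++ wpow (wd w2) j) ++ wd (uw i j)))
    (and (checkEq 11 (wd (uw i j) ++ wd (uw i j)) []) (mv (wd (uw i j)) 4 (uq i j)))

theorem chk_all : ∀ i < 5, ∀ j < 5, (and (Nat.beq i 0) (Nat.beq j 0) = true) ∨ chk i j = true := by decide +kernel

theorem even_five {v : Suz} (hv : orderOf v = 5) : 2 ∣ Nat.card (centralizer ({v} : Set Suz)) := by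
  have : Fact (Nat.Prime 5) := ⟨by norm_num⟩
  have : Fact (Nat.Prime 2) := ⟨by norm_num⟩
  obtain ⟨c, hc⟩ := exists_conj (X := zpowers v) (IsPGroup.of_card (n := 1) (by rw [Nat.card_zpowers, hv, pow_one]))
  have h1 : c * v * c⁻¹ ∈ Y0 := hc ⟨v, mem_zpowers v, rfl⟩
  obtain ⟨i, hi, j, hj, h2⟩ := mem_Y0 h1
  have h3 : c * v * c⁻¹ ≠ 1 := by
    intro h
    have h4 : v = 1 := by
      have : v = c⁻¹ * (c * v * c⁻¹) * c := by group
      rw [this, h]; group
    rw [h4, orderOf_one] at hv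
    omega
  have hr : Rep (f1 ^ i * f2 ^ j) (wpow (wd w1) i ++ wpow (wd w2) j) := (Rep.pow (Rep.el _) i).mul (Rep.pow (Rep.el _) j)
  have ht : Rep (el (uw i j)) (wd (uw i j)) := Rep.el _
  rcases chk_all i hi j hj with h | h
  · exfalso
    rw [Bool.and_eq_true] at h
    have hi0 := Nat.eq_of_beq_eq_true h.1
    have hj0 := Nat.eq_of_beq_eq_true h.2
    subst hi0 hj0
    rw [h2] at h3
    exact h3 (by simp)
  · unfold chk at h
    rw [Bool.and_eq_true, Bool.and_eq_true] at h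
    obtain ⟨ha, hb, hm⟩ := h
    have hab := eq_of_reps (ht.mul hr) (hr.mul ht) ha
    have hbb : el (uw i j) * el (uw i j) = 1 := eq_of_reps (ht.mul ht) Rep.one hb
    have ho : orderOf (el (uw i j)) = 2 :=
      orderOf_eq_prime (by rw [pow_two, hbb]) (ne_one_of_mv ht hm (uq_ne i j))
    have h5 : (c⁻¹ * el (uw i j) * c) * v = v * (c⁻¹ * el (uw i j) * c) := by
      have h6 : v = c⁻¹ * (f1 ^ i * f2 ^ j) * c := by rw [← h2]; group
      rw [h6]
      calc c⁻¹ * el (uw i j) * c * (c⁻¹ * (f1 ^ i * f2 ^ j) * c) = c⁻¹ * (el (uw i j) * (f1 ^ i * f2 ^ j)) * c := by group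
        _ = c⁻¹ * ((f1 ^ i * f2 ^ j) * el (uw i j)) * c := by rw [hab]
        _ = _ := by group
    have h7 : orderOf (c⁻¹ * el (uw i j) * c) = 2 := by
      have := orderOf_conj c⁻¹ (el (uw i j))
      rwa [inv_inv, ho] at this
    have h8 := orderOf_dvd_natCard (⟨c⁻¹ * el (uw i j) * c, mem_centralizer_singleton_iff.2 h5⟩ :
      centralizer ({v} : Set Suz))
    rwa [Subgroup.orderOf_mk, h7] at h8

end Cfsg.Agent.H874.Tor.SuzFive
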