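import Cfsg.Agent.H874.Tor.Tools
import Cfsg.Agent.H874.Tor.SuzFive
import Cfsg.Agent.H812.SuzLoc
import Cfsg.Agent.H265.SuzCent

/-!
# S3235: the facts of `Suz` (helper874, task 2768)
-/

set_option autoImplicit false

namespace Cfsg.Agent.H874.Tor

open Subgroup Cfsg Cfsg.Agent.H33.Tor
open Cfsg.Spor (Suz)

universe u

theorem suz_seven {v : Suz} (hv : orderOf v = 7) : 2 ∣ Nat.card (centralizer ({v} : Set Suz)) := by
  have hfin := H265.SuzEven.finSuz
  have h1 := KFacts.SuzLFour.e0_comm _ H812.SuzLoc.x7_mem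
  refine even_of_one (l := 7) (by norm_num) (by rw [SporadicRecognition.SuzOrder.card_Suz]; norm_num)
    H812.SuzLoc.order_x7 ?_ h1 hv
  have : Fact (Nat.Prime 2) := ⟨Nat.prime_two⟩
  exact orderOf_eq_prime (by rw [pow_two]; exact KFacts.SuzLFour.e0_sq) KFacts.SuzLFour.e0_ne

theorem facts_suz0 {p : ℕ} (hp : p.Prime) (hp5 : 5 ≤ p) : Facts p Suz := by
  have hfin := H265.SuzEven.finSuz
  have hcard : Nat.card Suz = 448345497600 := SporadicRecognition.SuzOrder.card_Suz
  intro x hx
  have hd : p ∣ 448345497600 := by rw [← hcard, ← hx]; exact orderOf_dvd_natCard x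
  have hd' : p ∣ 2 ^ 13 * (3 ^ 7 * (5 ^ 2 * (7 * (11 * 13)))) := hd.trans (by norm_num)
  have key : p = 5 ∨ p = 7 ∨ p = 11 ∨ p = 13 := by
    rcases hp.dvd_mul.1 hd' with h | h
    · have := Nat.le_of_dvd (by norm_num) (hp.dvd_of_dvd_pow h); omega
    rcases hp.dvd_mul.1 h with h | h
    · have := Nat.le_of_dvd (by norm_num) (hp.dvd_of_dvd_pow h); omega
    rcases hp.dvd_mul.1 h with h | h
    · have := Nat.le_of_dvd (by norm_num) (hp.dvd_of_dvd_pow h); omega
    rcases hp.dvd_mul.1 h with h | h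
    · have := (Nat.prime_dvd_prime_iff_eq hp (by norm_num)).1 h; omega
    rcases hp.dvd_mul.1 h with h | h
    · have := (Nat.prime_dvd_prime_iff_eq hp (by norm_num)).1 h; omega
    · have := (Nat.prime_dvd_prime_iff_eq hp (by norm_num)).1 h; omega
  rcases key with rfl | rfl | rfl | rfl
  · exact Or.inl (Ev.of_even (SuzFive.even_five hx))
  · exact Or.inl (Ev.of_even (suz_seven hx))
  · rcases ev_or_eq (by norm_num) hx (H265.SuzCent.dvd_eleven hx) with h | h
    · exact Or.inl h
    · exact Or.inr (Or.inl (Sm.of_card (by norm_num) (by norm_num) h (by rw [hcard]; norm_num)))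
  · rcases ev_or_eq (by norm_num) hx (H265.SuzCent.dvd_thirteen hx) with h | h
    · exact Or.inl h
    · exact Or.inr (Or.inl (Sm.of_card (by norm_num) (by norm_num) h (by rw [hcard]; norm_num)))

/-- **the facts of `Suz`** -/
theorem facts_suz {p : ℕ} (hp : p.Prime) (hp5 : 5 ≤ p) {G : Type u} [Group G] (h : Spor.IsoSuz G) : Facts p G := by
  obtain ⟨e⟩ := h
  exact Facts.congr e.symm (facts_suz0 hp hp5)

end Cfsg.Agent.H874.Tor
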